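import Groth.Prelude.Def_MultCurve
import Groth.Prelude.Def_Pic
import Groth.Agent.Om3.Chart
import Groth.Agent.Amp73.Gen
import Groth.Agent.Mero90.Frames
import Groth.Agent.CartMod7.Affine
import Mathlib.RingTheory.Localization.Away.Basic

/-!
Square-zero ideals: locally principal with small annihilator iff the conormal sheaf is invertible.
-/

set_option autoImplicit false
set_option linter.style.haveILetI false
universe u

open CategoryTheory CategoryTheory.Limits AlgebraicGeometry TopologicalSpace Opposite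

namespace Groth.Agent.Rib52

open Var76.LineBundle Var76.ZeroScheme

variable {X : Scheme.{u}}

/-- A section which generates freely on a basis is a frame. -/
theorem isFrame_of_basis {L : X.Modules} {U : X.Opens} (e : Γ(L, U))
    (h : ∀ (V : X.Opens), V ≤ U → ∀ y ∈ V, ∃ (W : X.Opens) (hW : W ≤ U), W ≤ V ∧ y ∈ W ∧
      Function.Bijective fun a : Γ(X, W) => a • res L hW e) : IsFrame L U e := by
  choose W hWU hWV hyW hbij using h
  have inj : ∀ (V : X.Opens) (hV : V ≤ U), Function.Injective fun a : Γ(X, V) => a • res L hV e := by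
    intro V hV a a' he
    refine TopCat.Sheaf.eq_of_locally_eq' X.sheaf (fun y : V => W V hV y.1 y.2) V
      (fun y => homOfLE (hWV V hV y.1 y.2)) (fun y hy => Opens.mem_iSup.2 ⟨⟨y, hy⟩, hyW V hV y hy⟩) a a' fun y => ?_
    refine (hbij V hV y.1 y.2).1 ?_
    have h1 := congrArg (res L (hWV V hV y.1 y.2)) he
    dsimp only at h1
    rw [res_smul, res_smul, res_res] at h1
    exact h1
  intro V hV
  refine ⟨inj V hV, fun m => ?_⟩
  have key : ∀ y : V, ∃ c : Γ(X, W V hV y.1 y.2), c • res L (hWU V hV y.1 y.2) e = res L (hWV V hV y.1 y.2) m :=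
    fun y => (hbij V hV y.1 y.2).2 _
  choose c hc using key
  have compat : TopCat.Presheaf.IsCompatible X.presheaf (fun y : V => W V hV y.1 y.2) c := by
    intro x y
    refine inj _ (inf_le_left.trans (hWU V hV x.1 x.2)) ?_
    have h1 := congrArg (res L (inf_le_left : W V hV x.1 x.2 ⊓ W V hV y.1 y.2 ≤ W V hV x.1 x.2)) (hc x)
    have h2 := congrArg (res L (inf_le_right : W V hV x.1 x.2 ⊓ W V hV y.1 y.2 ≤ W V hV y.1 y.2)) (hc y)
    rw [res_smul, res_res, res_res] at h1 h2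
    exact h1.trans h2.symm
  obtain ⟨a, ha, -⟩ := X.sheaf.existsUnique_gluing' (fun y : V => W V hV y.1 y.2) V
    (fun y => homOfLE (hWV V hV y.1 y.2)) (fun y hy => Opens.mem_iSup.2 ⟨⟨y, hy⟩, hyW V hV y hy⟩) c compat
  refine ⟨a, eq_of_locally L _ _ fun y hy => ⟨W V hV y hy, hWV V hV y hy, hyW V hV y hy, ?_⟩⟩
  rw [res_smul, res_res, ← hc ⟨y, hy⟩]
  congr 1
  exact ha ⟨y, hy⟩

variable {Z : Scheme.{u}} (i : Z ⟶ X)

theorem conormalSect_res {U W : X.Opens} (h : W ≤ U) (s : Γ(ClSub.idealMod i.ker, U)) :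
    OmegaSh.conormalSect i W (res (ClSub.idealMod i.ker) h s) =
      res (Omega.conormal i) (i.preimage_mono h) (OmegaSh.conormalSect i U s) :=
  (Mero90.app_res ((Scheme.Modules.pullbackPushforwardAdjunction i).unit.app (ClSub.idealMod i.ker)) h s).trans rfl

variable [IsClosedImmersion i]

theorem isInvertible_of_principal (hsq : ∀ U : X.affineOpens, i.ker.ideal U ^ 2 = ⊥)
    (h : MultCurve.IsPrincipalOfOrder i.ker 2) : PicF.IsInvertible (Omega.conormal i) := by
  refine Mero90.isInvertible_of_frames fun y => ?_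
  obtain ⟨U, hyU, z, hz, hann⟩ := h (i.base y)
  simp only [Nat.reduceSub, pow_one] at hann
  have hmemz : z ∈ i.ker.ideal U := hz ▸ Ideal.mem_span_singleton_self z
  rw [Scheme.Hom.ker_apply] at hmemz
  obtain ⟨s, hs⟩ := Om3.exists_sect_of_app_eq_zero i z hmemz
  refine ⟨i ⁻¹ᵁ U.1, hyU, OmegaSh.conormalSect i U.1 s, isFrame_of_basis _ fun V hV x hx => ?_⟩
  obtain ⟨O, hO, hOV⟩ := i.isClosedEmbedding.isEmbedding.isInducing.isOpen_iff.1 V.isOpen
  have hxO : i.base x ∈ O := by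
    have : x ∈ i.base ⁻¹' O := hOV.symm ▸ hx
    exact this
  obtain ⟨f, hfO, hxf⟩ := U.2.exists_basicOpen_le (V := ⟨O ∩ U.1, hO.inter U.1.isOpen⟩) ⟨i.base x, hxO, hV hx⟩ (hV hx)
  let W : X.Opens := X.basicOpen f
  have hWU : W ≤ U.1 := X.basicOpen_le f
  have hW : IsAffineOpen W := U.2.basicOpen f
  have hP : IsAffineOpen (i ⁻¹ᵁ W) := hW.preimage i
  refine ⟨i ⁻¹ᵁ W, i.preimage_mono hWU, fun q hq => ?_, hxf, ?_⟩
  · have : q ∈ i.base ⁻¹' O := (hfO hq).1
    rwa [hOV] at this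
  have hsurj : Function.Surjective (i.app W) := i.app_surjective W hW
  have hI : RingHom.ker (i.app W).hom = i.ker.ideal ⟨W, hW⟩ := (Scheme.Hom.ker_apply i ⟨W, hW⟩).symm
  have hsqW : RingHom.ker (i.app W).hom ^ 2 = ⊥ := by rw [hI]; exact hsq ⟨W, hW⟩
  let zW : Γ(X, W) := X.presheaf.map (homOfLE hWU).op z
  have hIW : i.ker.ideal ⟨W, hW⟩ = Ideal.span {zW} := by
    rw [← i.ker.map_ideal (U := ⟨W, hW⟩) (V := U) hWU, hz, Ideal.map_span, Set.image_singleton]
    rfl
  let sW := res (ClSub.idealMod i.ker) hWU s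
  have hsW : OmegaSh.idealSect i.ker W sW = zW := by rw [Om3.idealSect_res, hs]
  have hannW : ∀ r : Γ(X, W), r * zW = 0 → r ∈ i.ker.ideal ⟨W, hW⟩ := by
    intro r hr
    letI := (X.presheaf.map (homOfLE hWU).op).hom.toAlgebra
    haveI : IsLocalization.Away f Γ(X, W) := U.2.isLocalization_basicOpen f
    obtain ⟨⟨r₀, t⟩, ht⟩ := IsLocalization.surj (Submonoid.powers f) r
    simp only at ht
    have h0 : algebraMap Γ(X, U.1) Γ(X, W) (r₀ * z) = 0 := by
      rw [map_mul, ← ht, mul_right_comm, show algebraMap Γ(X, U.1) Γ(X, W) z = zW from rfl, hr, zero_mul]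
    obtain ⟨w, hw⟩ := (IsLocalization.map_eq_zero_iff (Submonoid.powers f) Γ(X, W) _).1 h0
    have hmem : (w : Γ(X, U.1)) * r₀ ∈ i.ker.ideal U := hann _ (by rw [mul_assoc]; exact hw)
    have hmap : algebraMap Γ(X, U.1) Γ(X, W) ((w : Γ(X, U.1)) * r₀) ∈ i.ker.ideal ⟨W, hW⟩ := by
      rw [← i.ker.map_ideal (U := ⟨W, hW⟩) (V := U) hWU]
      exact Ideal.mem_map_of_mem _ hmem
    rw [map_mul, ← ht] at hmap
    rw [Ideal.unit_mul_mem_iff_mem _ (IsLocalization.map_units Γ(X, W) w),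
      Ideal.mul_unit_mem_iff_mem _ (IsLocalization.map_units Γ(X, W) t)] at hmap
    exact hmap
  have hsm : ∀ r : Γ(X, W), i.app W r • res (Omega.conormal i) (i.preimage_mono hWU) (OmegaSh.conormalSect i U.1 s) =
      OmegaSh.conormalSect i W (r • sW) := fun r => by
    rw [Om3.conormalSect_smul, conormalSect_res]
  constructor
  · intro a a' he
    obtain ⟨r, rfl⟩ := hsurj a
    obtain ⟨r', rfl⟩ := hsurj a'
    dsimp only at he
    rw [hsm, hsm, ← sub_eq_zero, ← map_sub, Om3.conormalSect_eq_zero_iff_of_sq i hW hP hsurj hsqW] at he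
    have h0 := congrArg (OmegaSh.idealSect i.ker W) he
    rw [map_sub, Omega57.idealSect_smul, Omega57.idealSect_smul, map_zero, hsW, ← sub_mul] at h0
    have hmem := hannW _ h0
    rw [← hI, RingHom.mem_ker, map_sub, sub_eq_zero] at hmem
    exact hmem
  · intro m
    obtain ⟨t, rfl⟩ := Om3.conormalSect_surjective i hW hP hsurj m
    have ht : OmegaSh.idealSect i.ker W t ∈ i.ker.ideal ⟨W, hW⟩ := by
      rw [← hI]; exact FlatMor67.app_idealSect i W t
    rw [hIW, Ideal.mem_span_singleton'] at ht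
    obtain ⟨r, hr⟩ := ht
    refine ⟨i.app W r, ?_⟩
    dsimp only
    rw [hsm]
    congr 1
    exact Omega57.idealSect_injective _ _ (by rw [Omega57.idealSect_smul, hsW, hr])

theorem principal_of_isInvertible [Surjective i] (hsq : ∀ U : X.affineOpens, i.ker.ideal U ^ 2 = ⊥)
    (h : PicF.IsInvertible (Omega.conormal i)) : MultCurve.IsPrincipalOfOrder i.ker 2 := by
  intro x
  obtain ⟨y, hy⟩ := i.surjective x
  obtain ⟨P, hyP, -, e, he⟩ := Mero90.exists_affine_frame h y ⊤ trivial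
  obtain ⟨O, hO, hOP⟩ := i.isClosedEmbedding.isEmbedding.isInducing.isOpen_iff.1 P.1.isOpen
  have hxO : x ∈ O := by
    have : y ∈ i.base ⁻¹' O := hOP.symm ▸ hyP
    exact hy ▸ this
  obtain ⟨W, hW, hxW, hWO⟩ := exists_isAffineOpen_mem_and_subset (U := ⟨O, hO⟩) hxO
  have hle : i ⁻¹ᵁ W ≤ P.1 := fun q hq => by
    have : q ∈ i.base ⁻¹' O := hWO hq
    rwa [hOP] at this
  have hP : IsAffineOpen (i ⁻¹ᵁ W) := hW.preimage i
  have hsurj : Function.Surjective (i.app W) := i.app_surjective W hW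
  have hI : RingHom.ker (i.app W).hom = i.ker.ideal ⟨W, hW⟩ := (Scheme.Hom.ker_apply i ⟨W, hW⟩).symm
  have hsqW : RingHom.ker (i.app W).hom ^ 2 = ⊥ := by rw [hI]; exact hsq ⟨W, hW⟩
  obtain ⟨s, hs⟩ := Om3.conormalSect_surjective i hW hP hsurj (res _ hle e)
  refine ⟨⟨W, hW⟩, hxW, OmegaSh.idealSect i.ker W s, le_antisymm (fun t ht => ?_) ?_, fun a ha => ?_⟩
  · rw [← hI] at ht
    obtain ⟨st, hst⟩ := Om3.exists_sect_of_app_eq_zero i t ht
    obtain ⟨c, hc⟩ := (he (i ⁻¹ᵁ W) hle).2 (OmegaSh.conormalSect i W st)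
    obtain ⟨r, rfl⟩ := hsurj c
    dsimp only at hc
    rw [← hs, ← Om3.conormalSect_smul, ← sub_eq_zero, ← map_sub,
      Om3.conormalSect_eq_zero_iff_of_sq i hW hP hsurj hsqW, sub_eq_zero] at hc
    exact Ideal.mem_span_singleton'.2 ⟨r, by rw [← Omega57.idealSect_smul, hc, hst]⟩
  · rw [Ideal.span_singleton_le_iff_mem, ← hI]
    exact FlatMor67.app_idealSect i W s
  · simp only [Nat.reduceSub, pow_one] at ha
    have h0 : a • s = 0 := Omega57.idealSect_injective _ _ (by rw [Omega57.idealSect_smul, ha, map_zero])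
    rw [← hI, RingHom.mem_ker]
    refine (he (i ⁻¹ᵁ W) hle).1 ?_
    dsimp only
    rw [← hs, ← Om3.conormalSect_smul, h0, map_zero, zero_smul]

end Groth.Agent.Rib52
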