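import Groth.Agent.Rib52.Lift
import Groth.Agent.Om3.Compat

/-!
The map on middle terms of conormal sequences induced by a morphism under the reduced curve.
-/

set_option autoImplicit false
set_option linter.style.haveILetI false
universe u

open CategoryTheory CategoryTheory.Limits AlgebraicGeometry TopologicalSpace Opposite

namespace Groth.Agent.Rib52

open Var76.LineBundle Var76.ZeroScheme Var76.OmegaUniv

theorem hom_ext_pullVal {D X S : Scheme.{u}} (h : D ⟶ X) {q : X ⟶ S} {Ω : X.Modules} {d : OmegaSh.Der q Ω}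
    (hd : OmegaSh.IsUniversal d) {F : D.Modules} {a b : (Scheme.Modules.pullback h).obj Ω ⟶ F}
    (H : ∀ (V : X.Opens) (y : Γ(X, V)),
      a.app (h ⁻¹ᵁ V) (pullVal h d le_rfl y) = b.app (h ⁻¹ᵁ V) (pullVal h d le_rfl y)) : a = b := by
  let adj := Scheme.Modules.pullbackPushforwardAdjunction h
  refine (adj.homEquiv _ _).injective ?_
  obtain ⟨_, -, hu⟩ := hd _ (d.postcomp (adj.homEquiv _ _ b).val)
  refine (hu _ ?_).trans (hu _ rfl).symm
  refine PresheafOfModules.Derivation.ext (funext fun W => AddMonoidHom.ext fun y => ?_)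
  show (adj.homEquiv _ _ a).app W.unop (d.app W.unop y) = (adj.homEquiv _ _ b).app W.unop (d.app W.unop y)
  rw [Adjunction.homEquiv_unit, Adjunction.homEquiv_unit]
  have := H W.unop y
  simp only [pullVal, res_id] at this
  exact this

theorem exists_induced {C D X S : Scheme.{u}} (i : D ⟶ C) {f : D ⟶ X} (g : C ⟶ X) (hg : i ≫ g = f)
    {p : C ⟶ S} {q : X ⟶ S} (hq : g ≫ q = p) {Ω₁ : C.Modules} (d₁ : OmegaSh.Der p Ω₁)
    {Ω₃ : X.Modules} {d₃ : OmegaSh.Der q Ω₃} (hd₃ : OmegaSh.IsUniversal d₃) :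
    ∃ s : (Scheme.Modules.pullback f).obj Ω₃ ⟶ (Scheme.Modules.pullback i).obj Ω₁,
      (∀ (V : X.Opens) (P : D.Opens) (hP : P ≤ f ⁻¹ᵁ V) (hP' : P ≤ i ⁻¹ᵁ (g ⁻¹ᵁ V)) (y : Γ(X, V)),
        s.app P (pullVal f d₃ hP y) = pullVal i d₁ hP' (g.app V y)) ∧
      ∀ {S' : Scheme.{u}} {q' : D ⟶ S'} {Ω₂ : D.Modules} {d₂ : OmegaSh.Der q' Ω₂}
        {c : (Scheme.Modules.pullback i).obj Ω₁ ⟶ Ω₂} (_ : OmegaSh.IsDiffCompat i d₁ d₂ c)
        {df : (Scheme.Modules.pullback f).obj Ω₃ ⟶ Ω₂} (_ : OmegaSh.IsDiffCompat f d₃ d₂ df), s ≫ c = df := by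
  subst hg
  obtain ⟨θ, hθ, -⟩ := Groth.Agent.Om3.existsUnique_diffCompat g (b := 𝟙 S) (f := q) (f' := p)
    (by rw [Category.comp_id, hq]) hd₃ d₁
  let β : Ω₃ ⟶ (Scheme.Modules.pushforward (i ≫ g)).obj ((Scheme.Modules.pullback i).obj Ω₁) :=
    (Scheme.Modules.pullbackPushforwardAdjunction g).homEquiv _ _ θ ≫
      (Scheme.Modules.pushforward g).map ((Scheme.Modules.pullbackPushforwardAdjunction i).unit.app Ω₁) ≫
      (Scheme.Modules.pushforwardComp i g).hom.app _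
  let ψ := ((Scheme.Modules.pullbackPushforwardAdjunction (i ≫ g)).homEquiv _ _).symm β
  have hψ : ∀ (U' : X.Opens) (t : Γ(X, U')),
      ψ.app ((i ≫ g) ⁻¹ᵁ U') (OmegaSh.pullSect (i ≫ g) Ω₃ U' (d₃.app U' t)) =
        OmegaSh.pullSect i Ω₁ (g ⁻¹ᵁ U') (d₁.app (g ⁻¹ᵁ U') (g.app U' t)) := fun U' t => by
    have h1 : (Scheme.Modules.pullbackPushforwardAdjunction (i ≫ g)).homEquiv _ _ ψ = β :=
      Equiv.apply_symm_apply _ _
    rw [Adjunction.homEquiv_unit] at h1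
    refine (congr(Scheme.Modules.Hom.app $h1 U' (d₃.app U' t))).trans ?_
    exact congrArg (OmegaSh.pullSect i Ω₁ (g ⁻¹ᵁ U')) (hθ U' t)
  refine ⟨ψ, fun V P hP hP' y => ?_, fun {S' q' Ω₂ d₂ c} hc {df} hdf => hom_ext_pullVal _ hd₃ fun V y => ?_⟩
  · simp only [pullVal]
    rw [Mero90.app_res ψ, hψ]
    rfl
  · simp only [Scheme.Modules.Hom.comp_app, ConcreteCategory.comp_apply]
    rw [compat_pullVal _ _ _ hdf]
    simp only [pullVal]
    rw [Mero90.app_res ψ, hψ]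
    refine (compat_pullVal i d₁ (V := g ⁻¹ᵁ V) (P := (i ≫ g) ⁻¹ᵁ V) le_rfl hc (g.app V y)).trans ?_
    simp only [Scheme.Hom.app_eq_appLE, ← ConcreteCategory.comp_apply, Scheme.Hom.appLE_comp_appLE]

end Groth.Agent.Rib52
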