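import Groth.Agent.Rib52.ExtType
import Groth.Agent.Rib52.Induced
import Groth.Agent.Rib52.Conormal
import Groth.Agent.PP93.SeqDiff
import Groth.Agent.QC70.Hom
import Groth.Prelude.Def_Omega4
import Mathlib.AlgebraicGeometry.Morphisms.QuasiSeparated
import Mathlib.AlgebraicGeometry.Noetherian
import Mathlib.Algebra.Homology.ShortComplex.Exact

/-!
The ribbon of an extension: conormal sheaf and conormal sequence.
-/

set_option autoImplicit false
set_option linter.style.haveILetI false
universe u

open CategoryTheory CategoryTheory.Limits AlgebraicGeometry TopologicalSpace Opposite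

noncomputable section

namespace Groth.Agent.Rib52

open Var76.LineBundle Var76.ZeroScheme Var76.OmegaUniv

theorem exists_conormalDiff {C Z S : Scheme.{u}} (i : Z ⟶ C) [QuasiCompact i] {p : C ⟶ S} {Ω : C.Modules}
    (d : OmegaSh.Der p Ω) : ∃ φ, OmegaSh.IsConormalDiff i d φ := by
  let G := (Scheme.Modules.pullback i).obj Ω
  have hker : ∀ (U : C.Opens) (s : Γ(ClSub.idealMod i.ker, U)), i.app U (OmegaSh.idealSect i.ker U s) = 0 :=
    fun U s => FlatMor67.app_idealSect i U s
  let α : ClSub.idealMod i.ker ⟶ (Scheme.Modules.pushforward i).obj G :=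
    QC70.HomOn.toHom
      { app := fun U _ =>
          { toFun := fun s => OmegaSh.pullSect i Ω U (d.app U (OmegaSh.idealSect i.ker U s))
            map_add' := fun a b => by simp only [map_add]; rfl
            map_smul' := fun r s => by
              show OmegaSh.pullSect i Ω U _ = i.app U r • OmegaSh.pullSect i Ω U _
              rw [Omega57.idealSect_smul, Der.map_mul, map_add, OmegaSh.pullSect_smul, OmegaSh.pullSect_smul, hker U s,
                zero_smul, add_zero] }
        app_res := fun {W W'} _ h s => by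
          show OmegaSh.pullSect i Ω W' (d.app W' (OmegaSh.idealSect i.ker W' (res _ h s))) =
            res G (i.preimage_mono h) (OmegaSh.pullSect i Ω W (d.app W (OmegaSh.idealSect i.ker W s)))
          have h1 : d.app W' (OmegaSh.idealSect i.ker W' (res _ h s)) = res Ω h (d.app W (OmegaSh.idealSect i.ker W s)) := by
            erw [Om3.idealSect_res i.ker h s]
            exact Der.res d h _
          rw [h1]
          exact OmegaSh.pullSect_map i Ω h _ }
  refine ⟨((Scheme.Modules.pullbackPushforwardAdjunction i).homEquiv _ G).symm α, fun U s => ?_⟩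
  have h1 : (Scheme.Modules.pullbackPushforwardAdjunction i).homEquiv _ G
      (((Scheme.Modules.pullbackPushforwardAdjunction i).homEquiv _ G).symm α) = α := Equiv.apply_symm_apply _ _
  rw [Adjunction.homEquiv_unit] at h1
  exact congr(Scheme.Modules.Hom.app $h1 U s)

variable {D S : Scheme.{u}} {pD : D ⟶ S} (e : ExtData pD) [e.L.IsQuasicoherent] [IsAffine S]

/-- The projection of a section to the middle term, as a derivation. -/
def omDer (hS1 : ∀ V : S.Opens, V = ⊤ ∨ V = ⊥) :
    OmegaSh.Der (proj' e) ((Scheme.Modules.pushforward (incl e)).obj e.E) where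
  d {U} := AddMonoidHom.mk' (fun a => Sec.om a) fun a b => rfl
  d_mul {U} a b := rfl
  d_map {U V} i a := rfl
  d_app {V} c := by
    show Sec.om ((proj' e).app V.unop c) = 0
    obtain ⟨V⟩ := V
    rcases hS1 V with rfl | rfl
    · have h : (proj' e).app ⊤ = baseHom e := proj'_appTop e
      show Sec.om ((proj' e).app ⊤ c) = 0
      rw [h]
      rfl
    · exact eq_of_locally e.E _ _ fun x hx => absurd hx (fun h => h.elim)

variable (hS1 : ∀ V : S.Opens, V = ⊤ ∨ V = ⊥) {Ω₁ : (extScheme e).Modules} {d₁ : OmegaSh.Der (proj' e) Ω₁}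
  (hd₁ : OmegaSh.IsUniversal d₁)

include hS1 hd₁ in
theorem exists_middle : ∃ u : (Scheme.Modules.pullback (incl e)).obj Ω₁ ⟶ e.E,
    ∀ (U : (extScheme e).Opens) (a : Γ(extScheme e, U)),
      u.app (incl e ⁻¹ᵁ U) (OmegaSh.pullSect (incl e) Ω₁ U (d₁.app U a)) = Sec.om a := by
  obtain ⟨α, hα, -⟩ := hd₁ _ (omDer e hS1)
  refine ⟨((Scheme.Modules.pullbackPushforwardAdjunction (incl e)).homEquiv _ _).symm α, fun U a => ?_⟩
  have h1 : (Scheme.Modules.pullbackPushforwardAdjunction (incl e)).homEquiv _ _
      (((Scheme.Modules.pullbackPushforwardAdjunction (incl e)).homEquiv Ω₁ e.E).symm α) = α := Equiv.apply_symm_apply _ _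
  rw [Adjunction.homEquiv_unit] at h1
  refine (congr(Scheme.Modules.Hom.app $h1 U (d₁.app U a))).trans ?_
  exact congrArg (fun D' : OmegaSh.Der (proj' e) _ => D'.app U a) hα

include hS1 hd₁ in
/-- The conormal sequence of the ribbon of an extension is that extension. -/
theorem exists_sequence [e.L.IsFiniteType] [LocallyOfFiniteType pD] (hd : OmegaSh.IsUniversal e.d)
    {φ : Omega.conormal (incl e) ⟶ (Scheme.Modules.pullback (incl e)).obj Ω₁}
    (hφ : OmegaSh.IsConormalDiff (incl e) d₁ φ)
    {c : (Scheme.Modules.pullback (incl e)).obj Ω₁ ⟶ e.Om} (hc : OmegaSh.IsDiffCompat (incl e) d₁ e.d c) :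
    ∃ (hw : φ ≫ c = 0) (_ : (ShortComplex.mk φ c hw).ShortExact) (θ : Omega.conormal (incl e) ≅ e.L)
      (u : (Scheme.Modules.pullback (incl e)).obj Ω₁ ⟶ e.E), θ.hom ≫ e.inc = φ ≫ u ∧ u ≫ e.proj = c := by
  haveI := e.hS.mono_f
  obtain ⟨u, hu⟩ := exists_middle e hS1 hd₁
  have huc : u ≫ e.proj = c := by
    refine hom_ext_pullVal (incl e) hd₁ fun U a => ?_
    rw [compat_pullVal _ _ _ hc]
    simp only [pullVal, res_id, Scheme.Modules.Hom.comp_app, ConcreteCategory.comp_apply]
    rw [hu]
    refine (Sec.cond (show Sec e U from a)).trans (congrArg (e.d.app U) ?_)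
    exact congr($(Scheme.Hom.app_eq_appLE (f := incl e) (U := U)) a)
  have hker : ∀ (U : (extScheme e).Opens) (s : Γ(ClSub.idealMod (incl e).ker, U)),
      Sec.fn (show Sec e U from OmegaSh.idealSect (incl e).ker U s) = 0 := fun U s =>
    FlatMor67.app_idealSect (incl e) U s
  have hw : φ ≫ c = 0 := by
    apply ((Scheme.Modules.pullbackPushforwardAdjunction (incl e)).homEquiv (ClSub.idealMod (incl e).ker) _).injective
    refine Scheme.Modules.hom_ext _ _ fun U => ?_
    ext s
    rw [Adjunction.homEquiv_unit, Adjunction.homEquiv_unit]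
    show c.app _ (φ.app _ (OmegaSh.conormalSect (incl e) U s)) = (0 : _ ⟶ e.Om).app _ (OmegaSh.conormalSect (incl e) U s)
    rw [hφ U s, hc U, FlatMor67.app_idealSect (incl e) U s, map_zero]
    simp
  have hl : (φ ≫ u) ≫ e.proj = 0 := by rw [Category.assoc, huc, hw]
  let t : Omega.conormal (incl e) ⟶ e.L := e.hS.exact.lift (φ ≫ u) hl
  have ht : t ≫ e.inc = φ ≫ u := e.hS.exact.lift_f _ _
  have hval : ∀ (U : (extScheme e).Opens) (s : Γ(ClSub.idealMod (incl e).ker, U)),
      e.inc.app U (t.app U (OmegaSh.conormalSect (incl e) U s)) = Sec.om (OmegaSh.idealSect (incl e).ker U s) := by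
    intro U s
    refine (congr(Scheme.Modules.Hom.app $ht (incl e ⁻¹ᵁ U) (OmegaSh.conormalSect (incl e) U s))).trans ?_
    simp only [Scheme.Modules.Hom.comp_app, ConcreteCategory.comp_apply]
    rw [hφ U s, hu]
  have hbij : ∀ P : D.Opens, IsAffineOpen P → Function.Bijective (t.app P) := by
    intro P hP
    have hW : IsAffineOpen (up e P) := isAffineOpen_ext e hP
    have hs := Om3.conormalSect_surjective (incl e) hW hP (fun a => fnHom_surjective e hP a)
    constructor
    · rw [injective_iff_map_eq_zero]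
      intro v hv
      obtain ⟨s, rfl⟩ := hs v
      have h1 := hval (up e P) s
      erw [hv, map_zero] at h1
      have h0 : OmegaSh.idealSect (incl e).ker (up e P) s = 0 := Sec.ext (hker _ s) h1.symm
      have hs0 : s = 0 := Omega57.idealSect_injective _ _ (h0.trans (map_zero _).symm)
      exact (congrArg _ hs0).trans (map_zero _)
    · intro l
      obtain ⟨s, hs'⟩ := Om3.exists_sect_of_app_eq_zero (incl e) (W := up e P) (kerSec e l) rfl
      refine ⟨OmegaSh.conormalSect (incl e) (up e P) s, app_injective_of_shortExact e.hS P ?_⟩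
      have h1 := hval (up e P) s
      rw [hs'] at h1
      exact h1
  haveI : Mono t := Om3.mono_of_basis t fun O z hz => by
    obtain ⟨_, ⟨P, hP, rfl⟩, hzP, hPO⟩ := D.isBasis_affineOpens.exists_subset_of_mem_open hz O.isOpen
    exact ⟨P, hzP, hPO, (hbij P hP).1⟩
  haveI : Epi t := Om3.epi_of_basis t fun O z hz => by
    obtain ⟨_, ⟨P, hP, rfl⟩, hzP, hPO⟩ := D.isBasis_affineOpens.exists_subset_of_mem_open hz O.isOpen
    exact ⟨P, hzP, hPO, (hbij P hP).2⟩
  haveI : IsIso t := isIso_of_mono_of_epi t
  haveI : Mono φ := by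
    haveI : Mono (φ ≫ u) := ht ▸ (inferInstance : Mono (t ≫ e.inc))
    exact mono_of_mono φ u
  obtain ⟨hepi, himg⟩ : Epi c ∧ imageSubobject φ = kernelSubobject c := by
    have hX : ∀ {q : D ⟶ S} (_ : q = pD) (d' : OmegaSh.Der q e.Om) (_ : OmegaSh.IsUniversal d')
        (_ : OmegaSh.IsDiffCompat (incl e) d₁ d' c) (_ : q = incl e ≫ proj' e),
        Epi c ∧ imageSubobject φ = kernelSubobject c := by
      rintro q - d' hd' hc' rfl
      exact PP93.exact_conormal_differentials hd₁ hd' hφ hc'
    exact hX rfl e.d hd hc (incl_proj' e).symm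
  refine ⟨hw, ShortComplex.ShortExact.mk (ShortComplex.exact_iff_image_eq_kernel _ |>.2 himg), asIso t, u, ht, huc⟩

end Groth.Agent.Rib52
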