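import Mathlib.AlgebraicGeometry.AffineScheme
import Mathlib.AlgebraicGeometry.Gluing
import Mathlib.AlgebraicGeometry.Restrict
import Mathlib.AlgebraicGeometry.Pullbacks

/-!
Morphisms of schemes from compatible ring maps on affine opens.
-/

set_option autoImplicit false
set_option linter.style.haveILetI false

universe u

open CategoryTheory CategoryTheory.Limits AlgebraicGeometry Opposite TopologicalSpace

namespace Groth.Agent.Rib52

variable {X Y : Scheme.{u}}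

theorem hom_ext_affine_le {U : X.Opens} {g₁ g₂ : (U : Scheme.{u}) ⟶ Y}
    (h : ∀ (V : X.affineOpens) (hV : (V : X.Opens) ≤ U), X.homOfLE hV ≫ g₁ = X.homOfLE hV ≫ g₂) :
    g₁ = g₂ := by
  let 𝒰 : (U : Scheme.{u}).OpenCover := Scheme.Cover.mkOfCovers
    {V : X.affineOpens // (V : X.Opens) ≤ U} (fun V => (V.1 : X.Opens).toScheme) (fun V => X.homOfLE V.2)
    (fun x => by
      obtain ⟨_, ⟨V, hV, rfl⟩, hxV, hVU⟩ :=
        X.isBasis_affineOpens.exists_subset_of_mem_open x.2 U.isOpen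
      exact ⟨⟨⟨V, hV⟩, hVU⟩, ⟨x.1, hxV⟩, Subtype.ext (by simp)⟩)
    (fun V => inferInstanceAs (IsOpenImmersion (X.homOfLE V.2)))
  exact 𝒰.hom_ext _ _ fun V => h V.1 V.2

theorem exists_hom_of_affine (F : X.affineOpens → Y.affineOpens)
    (hF : ∀ {V W : X.affineOpens}, (V : X.Opens) ≤ W → (F V : Y.Opens) ≤ F W)
    (s : ∀ W : X.affineOpens, Γ(Y, F W) ⟶ Γ(X, W))
    (hs : ∀ {V W : X.affineOpens} (h : (V : X.Opens) ≤ W),
      Y.presheaf.map (homOfLE (hF h)).op ≫ s V = s W ≫ X.presheaf.map (homOfLE h).op) :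
    ∃ f : X ⟶ Y, ∀ W : X.affineOpens, ∃ e : (W : X.Opens) ≤ f ⁻¹ᵁ F W, f.appLE (F W) W e = s W := by
  let m : ∀ W : X.affineOpens, ((W : X.Opens) : Scheme.{u}) ⟶ Y := fun W =>
    (W : X.Opens).toSpecΓ ≫ Spec.map (s W) ≫ (F W).2.fromSpec
  have hm : ∀ {V W : X.affineOpens} (h : (V : X.Opens) ≤ W), X.homOfLE h ≫ m W = m V := by
    intro V W h
    simp only [m]
    rw [← Scheme.Opens.toSpecΓ_SpecMap_presheaf_map_assoc (V : X.Opens) (W : X.Opens) h,
      ← Spec.map_comp_assoc, ← hs h, Spec.map_comp_assoc]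
    congr 2
    exact (F W).2.map_fromSpec (F V).2 _
  have hcov : iSup (fun W : X.affineOpens => (W : X.Opens)) = ⊤ := iSup_affineOpens_eq_top X
  let 𝒰 := X.openCoverOfIsOpenCover (fun W : X.affineOpens => (W : X.Opens)) (.mk hcov)
  have hcompat : ∀ i j : X.affineOpens,
      pullback.fst (i : X.Opens).ι (j : X.Opens).ι ≫ m i = pullback.snd (i : X.Opens).ι (j : X.Opens).ι ≫ m j := by
    intro i j
    have hP := isPullback_opens_inf (i : X.Opens) (j : X.Opens)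
    rw [← cancel_epi hP.isoPullback.hom, hP.isoPullback_hom_fst_assoc, hP.isoPullback_hom_snd_assoc]
    refine hom_ext_affine_le fun V hV => ?_
    rw [Scheme.homOfLE_homOfLE_assoc, Scheme.homOfLE_homOfLE_assoc, hm, hm]
  refine ⟨𝒰.glueMorphisms m hcompat, fun W => ?_⟩
  have hW : (W : X.Opens).ι ≫ 𝒰.glueMorphisms m hcompat = m W := 𝒰.ι_glueMorphisms m hcompat W
  generalize 𝒰.glueMorphisms m hcompat = f at hW ⊢
  have e : (W : X.Opens) ≤ f ⁻¹ᵁ (F W : Y.Opens) := fun x hx => by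
    show f x ∈ (F W : Y.Opens)
    have h1 : f x = m W ⟨x, hx⟩ := congr($hW ⟨x, hx⟩)
    rw [h1]
    exact (F W).2.range_fromSpec.le ⟨_, rfl⟩
  refine ⟨e, Spec.map_injective ?_⟩
  rw [← cancel_mono (F W).2.fromSpec, (F W).2.SpecMap_appLE_fromSpec f W.2 e,
    ← cancel_epi W.2.isoSpec.hom]
  have h2 : (W : X.Opens).toSpecΓ ≫ W.2.fromSpec = (W : X.Opens).ι := IsAffineOpen.toSpecΓ_fromSpec W.2
  rw [IsAffineOpen.isoSpec_hom, reassoc_of% h2, hW]

theorem hom_ext_of_appLE {f g : X ⟶ Y} (F : X.affineOpens → Y.affineOpens)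
    (h : ∀ W : X.affineOpens, ∃ (e : (W : X.Opens) ≤ f ⁻¹ᵁ F W) (e' : (W : X.Opens) ≤ g ⁻¹ᵁ F W),
      f.appLE (F W) W e = g.appLE (F W) W e') : f = g := by
  let 𝒰 := X.openCoverOfIsOpenCover (fun W : X.affineOpens => (W : X.Opens))
    (.mk (iSup_affineOpens_eq_top X))
  refine 𝒰.hom_ext _ _ fun W => ?_
  obtain ⟨e, e', he⟩ := h W
  show (W.1 : X.Opens).ι ≫ f = (W.1 : X.Opens).ι ≫ g
  rw [← IsAffineOpen.toSpecΓ_fromSpec W.2, Category.assoc, Category.assoc,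
    ← (F W).2.SpecMap_appLE_fromSpec f W.2 e, ← (F W).2.SpecMap_appLE_fromSpec g W.2 e', he]

end Groth.Agent.Rib52
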