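import Groth.Agent.Rib52.Retract

/-!
Morphisms out of a square-zero thickening with short exact conormal sequence, from their value on
differentials.
-/

set_option autoImplicit false
set_option linter.style.haveILetI false
universe u

open CategoryTheory CategoryTheory.Limits AlgebraicGeometry TopologicalSpace Opposite

namespace Groth.Agent.Rib52

open Var76.LineBundle Var76.ZeroScheme Var76.OmegaUniv

theorem exists_hom_of_family {X Y : Scheme.{u}} {ι : Type u} (U : ι → X.Opens) (hU : ∀ j, IsAffineOpen (U j))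
    (F : ι → Y.Opens) (hF : ∀ j, IsAffineOpen (F j)) (hcov : ∀ x, ∃ j, x ∈ U j)
    (hdir : ∀ j j' x, x ∈ U j → x ∈ U j' → ∃ l, x ∈ U l ∧ U l ≤ U j ∧ U l ≤ U j' ∧ F l ≤ F j ∧ F l ≤ F j')
    (s : ∀ j, Γ(Y, F j) ⟶ Γ(X, U j))
    (hs : ∀ {l j : ι} (h : U l ≤ U j) (h' : F l ≤ F j),
      Y.presheaf.map (homOfLE h').op ≫ s l = s j ≫ X.presheaf.map (homOfLE h).op) :
    ∃ f : X ⟶ Y, ∀ j, ∃ e : U j ≤ f ⁻¹ᵁ F j, f.appLE (F j) (U j) e = s j := by
  let m : ∀ j, ((U j : X.Opens) : Scheme.{u}) ⟶ Y := fun j =>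
    (U j).toSpecΓ ≫ Spec.map (s j) ≫ (hF j).fromSpec
  have hm : ∀ {l j : ι} (h : U l ≤ U j) (_ : F l ≤ F j), X.homOfLE h ≫ m j = m l := by
    intro l j h h'
    simp only [m]
    rw [← Scheme.Opens.toSpecΓ_SpecMap_presheaf_map_assoc (U l) (U j) h,
      ← Spec.map_comp_assoc, ← hs h h', Spec.map_comp_assoc]
    congr 2
    exact (hF j).map_fromSpec (hF l) _
  let 𝒰 := X.openCoverOfIsOpenCover U (.mk (Opens.ext (Set.eq_univ_of_forall fun x => by
    obtain ⟨j, hj⟩ := hcov x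
    exact Opens.mem_iSup.2 ⟨j, hj⟩)))
  have hcompat : ∀ j j' : ι, pullback.fst (U j).ι (U j').ι ≫ m j = pullback.snd (U j).ι (U j').ι ≫ m j' := by
    intro j j'
    have hP := isPullback_opens_inf (U j) (U j')
    rw [← cancel_epi hP.isoPullback.hom, hP.isoPullback_hom_fst_assoc, hP.isoPullback_hom_snd_assoc]
    let 𝒱 : ((U j ⊓ U j' : X.Opens) : Scheme.{u}).OpenCover := Scheme.Cover.mkOfCovers
      {l : ι // U l ≤ U j ⊓ U j' ∧ F l ≤ F j ∧ F l ≤ F j'} (fun l => (U l.1).toScheme) (fun l => X.homOfLE l.2.1)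
      (fun x => by
        obtain ⟨l, hx, h1, h2, h3, h4⟩ := hdir j j' x.1 x.2.1 x.2.2
        exact ⟨⟨l, le_inf h1 h2, h3, h4⟩, ⟨x.1, hx⟩, Subtype.ext (by simp)⟩)
      (fun l => inferInstanceAs (IsOpenImmersion (X.homOfLE l.2.1)))
    refine 𝒱.hom_ext _ _ fun l => ?_
    show X.homOfLE l.2.1 ≫ X.homOfLE _ ≫ m j = X.homOfLE l.2.1 ≫ X.homOfLE _ ≫ m j'
    rw [Scheme.homOfLE_homOfLE_assoc, Scheme.homOfLE_homOfLE_assoc, hm _ l.2.2.1, hm _ l.2.2.2]
  refine ⟨𝒰.glueMorphisms m hcompat, fun j => ?_⟩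
  have hW : (U j).ι ≫ 𝒰.glueMorphisms m hcompat = m j := 𝒰.ι_glueMorphisms m hcompat j
  generalize 𝒰.glueMorphisms m hcompat = f at hW ⊢
  have e : U j ≤ f ⁻¹ᵁ F j := fun x hx => by
    show f x ∈ F j
    have h1 : f x = m j ⟨x, hx⟩ := congr($hW ⟨x, hx⟩)
    rw [h1]
    exact (hF j).range_fromSpec.le ⟨_, rfl⟩
  refine ⟨e, Spec.map_injective ?_⟩
  rw [← cancel_mono (hF j).fromSpec, (hF j).SpecMap_appLE_fromSpec f (hU j) e,
    ← cancel_epi (hU j).isoSpec.hom]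
  have h2 : (U j).toSpecΓ ≫ (hU j).fromSpec = (U j).ι := IsAffineOpen.toSpecΓ_fromSpec (hU j)
  rw [IsAffineOpen.isoSpec_hom, reassoc_of% h2, hW]

section PullVal

variable {D X S : Scheme.{u}} (h : D ⟶ X) {q : X ⟶ S} {Ω : X.Modules} (d : OmegaSh.Der q Ω)

/-- The pullback of the differential of a local function. -/
noncomputable def pullVal {V : X.Opens} {P : D.Opens} (hP : P ≤ h ⁻¹ᵁ V) (y : Γ(X, V)) :
    Γ((Scheme.Modules.pullback h).obj Ω, P) :=
  res _ hP (OmegaSh.pullSect h Ω V (d.app V y))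

variable {V : X.Opens} {P : D.Opens} (hP : P ≤ h ⁻¹ᵁ V)

theorem pullVal_add (x y : Γ(X, V)) : pullVal h d hP (x + y) = pullVal h d hP x + pullVal h d hP y := by
  simp only [pullVal, map_add]

theorem pullVal_sub (x y : Γ(X, V)) : pullVal h d hP (x - y) = pullVal h d hP x - pullVal h d hP y := by
  simp only [pullVal, map_sub]

theorem pullVal_appLE {T : S.Opens} (e : V ≤ q ⁻¹ᵁ T) (c : Γ(S, T)) : pullVal h d hP (q.appLE T V e c) = 0 := by
  simp only [pullVal, Der.appLE, map_zero]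

theorem pullVal_mul (x y : Γ(X, V)) : pullVal h d hP (x * y) =
    h.appLE V P hP x • pullVal h d hP y + h.appLE V P hP y • pullVal h d hP x := by
  simp only [pullVal, Der.map_mul, map_add, OmegaSh.pullSect_smul]
  refine congrArg₂ (· + ·) ?_ ?_ <;> exact Scheme.Modules.map_smul _ _ _ _

theorem pullVal_res {V' : X.Opens} {P' : D.Opens} (hP' : P' ≤ h ⁻¹ᵁ V') (hV : V' ≤ V) (le : P' ≤ P) (y : Γ(X, V)) :
    pullVal h d hP' (X.presheaf.map (homOfLE hV).op y) = res _ le (pullVal h d hP y) := by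
  have h1 : d.app V' (X.presheaf.map (homOfLE hV).op y) = res Ω hV (d.app V y) := Der.res d hV y
  simp only [pullVal]
  rw [h1, res_res]
  exact (congrArg (res _ hP') (OmegaSh.pullSect_map h Ω hV _)).trans (res_res _ _ _ _)

theorem compat_pullVal {S' : Scheme.{u}} {q' : D ⟶ S'} {Ω₂ : D.Modules} {d₂ : OmegaSh.Der q' Ω₂}
    {c : (Scheme.Modules.pullback h).obj Ω ⟶ Ω₂} (hc : OmegaSh.IsDiffCompat h d d₂ c) (y : Γ(X, V)) :
    c.app P (pullVal h d hP y) = d₂.app P (h.appLE V P hP y) := by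
  simp only [pullVal]
  rw [Mero90.app_res c, hc V y]
  exact (Der.res d₂ hP _).symm

end PullVal

theorem exists_section_of_app_eq_zero {D : Scheme.{u}} {A B E : D.Modules} {φ : A ⟶ B} {c : B ⟶ E} {hw : φ ≫ c = 0}
    (hS : (ShortComplex.mk φ c hw).ShortExact) (P : D.Opens) (w : Γ(B, P)) (h : c.app P w = 0) :
    ∃ v, φ.app P v = w := by
  haveI := hS.mono_f
  let k := hS.exact.lift (kernel.ι c) (kernel.condition c)
  refine ⟨k.app P (OmegaSh.kerLift c P w h), ?_⟩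
  refine (congr(Scheme.Modules.Hom.app $(hS.exact.lift_f (kernel.ι c) (kernel.condition c)) P
    (OmegaSh.kerLift c P w h))).trans ?_
  exact OmegaSh.ι_kerLift c P w h

theorem app_injective_of_shortExact {D : Scheme.{u}} {A B E : D.Modules} {φ : A ⟶ B} {c : B ⟶ E} {hw : φ ≫ c = 0}
    (hS : (ShortComplex.mk φ c hw).ShortExact) (P : D.Opens) : Function.Injective (φ.app P) := by
  let K := kernel.lift c φ hw
  let k := (IsLimit.conePointUniqueUpToIso hS.fIsKernel (kernelIsKernel c))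
  have hk : k.hom ≫ kernel.ι c = φ := IsLimit.conePointUniqueUpToIso_hom_comp hS.fIsKernel (kernelIsKernel c) WalkingParallelPair.zero
  intro a b h
  rw [← hk] at h
  have h1 : k.hom.app P a = k.hom.app P b := OmegaSh.ι_app_injective c P h
  have h2 := congrArg (k.inv.app P) h1
  exact (congr(Scheme.Modules.Hom.app $(k.hom_inv_id) P a)).symm.trans (h2.trans (congr(Scheme.Modules.Hom.app $(k.hom_inv_id) P b)))

section Thick

variable {C D S : Scheme.{u}} (i : D ⟶ C) [IsClosedImmersion i] (hi : SqZero i) {p : C ⟶ S}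
  {Ω₁ : C.Modules} {d₁ : OmegaSh.Der p Ω₁}
  {φ : Omega.conormal i ⟶ (Scheme.Modules.pullback i).obj Ω₁} (hφ : OmegaSh.IsConormalDiff i d₁ φ)

include hφ in
theorem pullVal_eps {W : C.Opens} (hW : IsAffineOpen W) {P : D.Opens} (e : i ⁻¹ᵁ W = P) (v : Γ(Omega.conormal i, P)) :
    pullVal i d₁ e.ge (eps i hi hW e v) = φ.app P v := by
  obtain ⟨t, rfl⟩ := exists_cls i hi hW e v
  rw [eps_cls, Mero90.app_res, hφ W t]
  rfl

variable {Ω₂ : D.Modules} {c : (Scheme.Modules.pullback i).obj Ω₁ ⟶ Ω₂} {hw : φ ≫ c = 0}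
  (hS : (ShortComplex.mk φ c hw).ShortExact)

include hi hφ hS in
theorem eq_of_pullVal {W : C.Opens} (hW : IsAffineOpen W) {P : D.Opens} (e : i ⁻¹ᵁ W = P) {x y : Γ(C, W)}
    (h1 : i.appLE W P e.ge x = i.appLE W P e.ge y) (h2 : pullVal i d₁ e.ge x = pullVal i d₁ e.ge y) : x = y := by
  obtain ⟨v, hv⟩ := exists_eps_eq i hi hW e (x - y) (by rw [map_sub, h1, sub_self])
  have h3 : φ.app P v = φ.app P 0 := by
    rw [← pullVal_eps i hi hφ hW e, hv, pullVal_sub, h2, sub_self, map_zero]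
  have hv0 := app_injective_of_shortExact hS P h3
  rw [hv0, map_zero] at hv
  exact (sub_eq_zero.1 hv.symm)

variable {q' : D ⟶ S} {d₂ : OmegaSh.Der q' Ω₂} (hc : OmegaSh.IsDiffCompat i d₁ d₂ c)

include hi hφ hS hc in
theorem exists_elt {W : C.Opens} (hW : IsAffineOpen W) {P : D.Opens} (e : i ⁻¹ᵁ W = P) (a : Γ(D, P))
    (w : Γ((Scheme.Modules.pullback i).obj Ω₁, P)) (h : c.app P w = d₂.app P a) :
    ∃ x, i.appLE W P e.ge x = a ∧ pullVal i d₁ e.ge x = w := by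
  subst e
  obtain ⟨x₀, hx₀⟩ := i.app_surjective W hW a
  rw [Scheme.Hom.app_eq_appLE] at hx₀
  obtain ⟨v, hv⟩ := exists_section_of_app_eq_zero hS _ (w - pullVal i d₁ le_rfl x₀) (by
    rw [map_sub, h, compat_pullVal i d₁ _ hc, hx₀, sub_self])
  refine ⟨x₀ + eps i hi hW rfl v, ?_, ?_⟩
  · rw [map_add, app_eps, add_zero, hx₀]
  · rw [pullVal_add, pullVal_eps i hi hφ hW rfl, hv]; abel

include hi hφ hS hc in
theorem exists_hom_of_diff {X : Scheme.{u}} [IsAffine S] (f : D ⟶ X) {q : X ⟶ S} (hf : f ≫ q = i ≫ p) {Ω₃ : X.Modules}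
    {d₃ : OmegaSh.Der q Ω₃} {df : (Scheme.Modules.pullback f).obj Ω₃ ⟶ Ω₂} (hdf : OmegaSh.IsDiffCompat f d₃ d₂ df)
    (s : (Scheme.Modules.pullback f).obj Ω₃ ⟶ (Scheme.Modules.pullback i).obj Ω₁) (hs : s ≫ c = df) :
    ∃ g : C ⟶ X, i ≫ g = f ∧ g ≫ q = p ∧ ∀ {W : C.Opens} (_ : IsAffineOpen W) {V : X.Opens} (_ : IsAffineOpen V)
      (le : W ≤ g ⁻¹ᵁ V) (h' : i ⁻¹ᵁ W ≤ f ⁻¹ᵁ V) (y : Γ(X, V)),
      pullVal i d₁ le_rfl (g.appLE V W le y) = s.app (i ⁻¹ᵁ W) (pullVal f d₃ h' y) := by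
  haveI := hi.surjective
  let ι := {j : C.affineOpens × X.affineOpens // i ⁻¹ᵁ (j.1 : C.Opens) ≤ f ⁻¹ᵁ (j.2 : X.Opens)}
  let U : ι → C.Opens := fun j => j.1.1
  let F : ι → X.Opens := fun j => j.1.2
  have hpt : ∀ (y : D) (O : C.Opens) (V₀ : X.Opens), i y ∈ O → f y ∈ V₀ →
      ∃ l : ι, i y ∈ U l ∧ U l ≤ O ∧ F l ≤ V₀ := by
    intro y O V₀ hyO hyV
    obtain ⟨_, ⟨V, hV, rfl⟩, hyV', hVV⟩ := X.isBasis_affineOpens.exists_subset_of_mem_open hyV V₀.isOpen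
    obtain ⟨O', hO', hOV⟩ := i.isClosedEmbedding.isEmbedding.isInducing.isOpen_iff.1 (f ⁻¹ᵁ V).isOpen
    have hyO' : i y ∈ O' := by
      have : y ∈ i.base ⁻¹' O' := hOV.symm ▸ hyV'
      exact this
    obtain ⟨_, ⟨W, hW, rfl⟩, hyW, hWO⟩ :=
      C.isBasis_affineOpens.exists_subset_of_mem_open (And.intro hyO' hyO) (hO'.inter O.isOpen)
    exact ⟨⟨(⟨W, hW⟩, ⟨V, hV⟩), fun z hz => by
      have : z ∈ i.base ⁻¹' O' := (hWO hz).1
      rwa [hOV] at this⟩, hyW, fun z hz => (hWO hz).2, hVV⟩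
  have hcov : ∀ x, ∃ j, x ∈ U j := fun x => by
    obtain ⟨y, rfl⟩ := i.surjective x
    obtain ⟨l, hl, -⟩ := hpt y ⊤ ⊤ trivial trivial
    exact ⟨l, hl⟩
  have hdir : ∀ j j' x, x ∈ U j → x ∈ U j' → ∃ l, x ∈ U l ∧ U l ≤ U j ∧ U l ≤ U j' ∧ F l ≤ F j ∧ F l ≤ F j' := by
    intro j j' x hx hx'
    obtain ⟨y, rfl⟩ := i.surjective x
    obtain ⟨l, hl, h1, h2⟩ := hpt y (U j ⊓ U j') (F j ⊓ F j') ⟨hx, hx'⟩ ⟨j.2 hx, j'.2 hx'⟩
    exact ⟨l, hl, h1.trans inf_le_left, h1.trans inf_le_right, h2.trans inf_le_left, h2.trans inf_le_right⟩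
  have hex : ∀ (j : ι) (y : Γ(X, F j)), ∃ x, i.appLE (U j) (i ⁻¹ᵁ U j) le_rfl x = f.appLE (F j) (i ⁻¹ᵁ U j) j.2 y ∧
      pullVal i d₁ le_rfl x = s.app _ (pullVal f d₃ j.2 y) := fun j y =>
    exists_elt i hi hφ hS hc j.1.1.2 rfl _ _ (by
      rw [← compat_pullVal f d₃ j.2 hdf]
      exact congr(Scheme.Modules.Hom.app $hs _ _))
  choose sf hsf1 hsf2 using hex
  have uniq := fun (j : ι) {x y : Γ(C, U j)} (h1 : i.appLE (U j) (i ⁻¹ᵁ U j) le_rfl x = i.appLE (U j) (i ⁻¹ᵁ U j) le_rfl y)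
    (h2 : pullVal i d₁ le_rfl x = pullVal i d₁ le_rfl y) => eq_of_pullVal i hi hφ hS j.1.1.2 rfl h1 h2
  have sf_add : ∀ j x y, sf j (x + y) = sf j x + sf j y := fun j x y => uniq j
    (by rw [hsf1, map_add, map_add, hsf1, hsf1])
    (by rw [hsf2, pullVal_add, pullVal_add, map_add, hsf2, hsf2])
  let sj : ∀ j, Γ(X, F j) ⟶ Γ(C, U j) := fun j => CommRingCat.ofHom
    { toFun := sf j
      map_one' := uniq j (by rw [hsf1, map_one, map_one]) (by
        rw [hsf2]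
        have h1 := pullVal_mul f d₃ j.2 1 1
        have h2 := pullVal_mul i d₁ (le_refl (i ⁻¹ᵁ U j)) 1 1
        simp only [one_mul, map_one, one_smul, left_eq_add] at h1 h2
        rw [h1, h2, map_zero])
      map_mul' := fun x y => uniq j (by rw [hsf1, map_mul, map_mul, hsf1, hsf1]) (by
        rw [hsf2, pullVal_mul, pullVal_mul, map_add, Scheme.Modules.Hom.app_smul, Scheme.Modules.Hom.app_smul,
          hsf1, hsf1, hsf2, hsf2])
      map_zero' := by simpa using sf_add j 0 0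
      map_add' := sf_add j }
  obtain ⟨g, hg⟩ := exists_hom_of_family U (fun j => j.1.1.2) F (fun j => j.1.2.2) hcov hdir sj (by
    intro l j h h'
    ext y
    simp only [CommRingCat.comp_apply]
    show sf l (X.presheaf.map (homOfLE h').op y) = C.presheaf.map (homOfLE h).op (sf j y)
    refine uniq l ?_ ?_
    · have h1 : ∀ x, i.appLE (U l) (i ⁻¹ᵁ U l) le_rfl (C.presheaf.map (homOfLE h).op x) =
          D.presheaf.map (homOfLE (i.preimage_mono h)).op (i.appLE (U j) (i ⁻¹ᵁ U j) le_rfl x) := fun x => by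
        simp only [← ConcreteCategory.comp_apply, Scheme.Hom.appLE_map, Scheme.Hom.map_appLE]
      rw [hsf1, h1, hsf1]
      simp only [← ConcreteCategory.comp_apply, Scheme.Hom.appLE_map, Scheme.Hom.map_appLE]
    · rw [hsf2, pullVal_res i d₁ le_rfl le_rfl h (i.preimage_mono h), hsf2,
        pullVal_res f d₃ j.2 l.2 h' (i.preimage_mono h), Mero90.app_res])
  have hgl : i ≫ g = f := by
    refine hom_ext_of_cover (fun j : ι => i ⁻¹ᵁ U j) (fun j => IsAffineOpen.preimage j.1.1.2 i) (fun y => hcov (i y))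
      F (fun j => j.1.2.2) fun j => ?_
    obtain ⟨e, he⟩ := hg j
    refine ⟨(i.preimage_mono e).trans (Scheme.Hom.comp_preimage i g _).ge, j.2, ?_⟩
    rw [← Scheme.Hom.appLE_comp_appLE i g (F j) (U j) (i ⁻¹ᵁ U j) e le_rfl, he]
    ext y
    exact hsf1 j y
  refine ⟨g, hgl, ?_, ?_⟩
  · refine hom_ext_of_cover U (fun j => j.1.1.2) hcov (fun _ => ⊤) (fun _ => isAffineOpen_top S) fun j => ?_
    obtain ⟨e, he⟩ := hg j
    refine ⟨le_top, le_top, ?_⟩
    rw [← Scheme.Hom.appLE_comp_appLE g q ⊤ (F j) (U j) le_top e, he]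
    ext y
    simp only [CommRingCat.comp_apply]
    show sf j (q.appLE ⊤ (F j) le_top y) = p.appLE ⊤ (U j) le_top y
    refine uniq j ?_ ?_
    · rw [hsf1]
      simp only [← ConcreteCategory.comp_apply, Scheme.Hom.appLE_comp_appLE, hf]
    · rw [hsf2, pullVal_appLE, pullVal_appLE, map_zero]
  · intro W hW V hV le h' y
    obtain ⟨e, he⟩ := hg ⟨(⟨W, hW⟩, ⟨V, hV⟩), h'⟩
    have := hsf2 ⟨(⟨W, hW⟩, ⟨V, hV⟩), h'⟩ y
    rwa [← show g.appLE V W le y = sf ⟨(⟨W, hW⟩, ⟨V, hV⟩), h'⟩ y from congr($he y)] at this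

include hi hφ hS hc in
/-- A lift of an isomorphism on middle terms is an isomorphism. -/
theorem isIso_of_diff {X : Scheme.{u}} (f : D ⟶ X) [IsClosedImmersion f] (hf : SqZero f) {q : X ⟶ S} {Ω₃ : X.Modules}
    {d₃ : OmegaSh.Der q Ω₃} {φ₃ : Omega.conormal f ⟶ (Scheme.Modules.pullback f).obj Ω₃}
    (hφ₃ : OmegaSh.IsConormalDiff f d₃ φ₃) {df : (Scheme.Modules.pullback f).obj Ω₃ ⟶ Ω₂} {hw₃ : φ₃ ≫ df = 0}
    (hS₃ : (ShortComplex.mk φ₃ df hw₃).ShortExact) (hdf : OmegaSh.IsDiffCompat f d₃ d₂ df)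
    (s : (Scheme.Modules.pullback f).obj Ω₃ ⟶ (Scheme.Modules.pullback i).obj Ω₁) [IsIso s] (hs : s ≫ c = df)
    (g : C ⟶ X) (hg : i ≫ g = f)
    (spec : ∀ {W : C.Opens} (_ : IsAffineOpen W) {V : X.Opens} (_ : IsAffineOpen V)
      (le : W ≤ g ⁻¹ᵁ V) (h' : i ⁻¹ᵁ W ≤ f ⁻¹ᵁ V) (y : Γ(X, V)),
      pullVal i d₁ le_rfl (g.appLE V W le y) = s.app (i ⁻¹ᵁ W) (pullVal f d₃ h' y)) : IsIso g := by
  haveI := hi.surjective
  have hpre : ∀ V : X.Opens, i ⁻¹ᵁ (g ⁻¹ᵁ V) = f ⁻¹ᵁ V := fun V => by rw [← Scheme.Hom.comp_preimage, hg]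
  have haff : ∀ V : X.Opens, IsAffineOpen V → IsAffineOpen (g ⁻¹ᵁ V) := fun V hV =>
    CartMod7.isAffineOpen_map i f g.base (by rw [← Scheme.Hom.comp_base, hg]) hV
  have key : ∀ V : X.Opens, IsAffineOpen V → IsIso (g.app V) := fun V hV => by
    rw [ConcreteCategory.isIso_iff_bijective]
    have hW := haff V hV
    have hrel : ∀ y, i.appLE (g ⁻¹ᵁ V) (f ⁻¹ᵁ V) (hpre V).ge (g.app V y) = f.appLE V (f ⁻¹ᵁ V) le_rfl y := fun y => by
      simp only [Scheme.Hom.app_eq_appLE, ← ConcreteCategory.comp_apply, Scheme.Hom.appLE_comp_appLE, hg]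
    have hval : ∀ y, pullVal i d₁ (hpre V).ge (g.app V y) = s.app (f ⁻¹ᵁ V) (pullVal f d₃ le_rfl y) := fun y => by
      have h := congrArg (res ((Scheme.Modules.pullback i).obj Ω₁) (hpre V).ge) (spec hW hV le_rfl (hpre V).le y)
      rw [← Scheme.Hom.app_eq_appLE, ← Mero90.app_res s] at h
      refine Eq.trans ?_ (h.trans ?_)
      · simp only [pullVal]; exact (res_res _ _ _ _).symm
      · simp only [pullVal]; exact congrArg (s.app _) (res_res _ _ _ _)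
    have hsinj : ∀ a, s.app (f ⁻¹ᵁ V) a = 0 → a = 0 := fun a ha => by
      have := congr(Scheme.Modules.Hom.app $(IsIso.hom_inv_id s) (f ⁻¹ᵁ V) a)
      simp only [Scheme.Modules.Hom.comp_app, ConcreteCategory.comp_apply, ha, map_zero] at this
      simpa using this.symm
    refine ⟨(injective_iff_map_eq_zero _).2 fun y hy => ?_, fun x => ?_⟩
    · refine eq_of_pullVal f hf hφ₃ hS₃ hV rfl ?_ ?_
      · rw [← hrel y, hy, map_zero, map_zero]
      · have h0 : pullVal i d₁ (hpre V).ge (0 : Γ(C, g ⁻¹ᵁ V)) = 0 := by simp [pullVal]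
        have h0' : pullVal f d₃ (le_refl (f ⁻¹ᵁ V)) (0 : Γ(X, V)) = 0 := by simp [pullVal]
        rw [h0']
        refine hsinj _ ?_
        rw [← hval y, hy, h0]
    · obtain ⟨y, hy1, hy2⟩ := exists_elt f hf hφ₃ hS₃ hdf hV rfl (i.appLE (g ⁻¹ᵁ V) (f ⁻¹ᵁ V) (hpre V).ge x)
        ((inv s).app _ (pullVal i d₁ (hpre V).ge x)) (by
          rw [← compat_pullVal i d₁ _ hc]
          have : inv s ≫ df = c := by rw [← hs]; simp
          exact congr(Scheme.Modules.Hom.app $this _ _))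
      refine ⟨y, eq_of_pullVal i hi hφ hS hW (hpre V) ?_ ?_⟩
      · rw [hrel, hy1]
      · rw [hval, hy2]
        exact congr(Scheme.Modules.Hom.app $(IsIso.inv_hom_id s) _ _)
  let 𝒰 := X.openCoverOfIsOpenCover (fun V : X.affineOpens => (V : X.Opens)) (.mk (iSup_affineOpens_eq_top X))
  refine (IsZariskiLocalAtTarget.iff_of_iSup_eq_top (P := MorphismProperty.isomorphisms Scheme.{u})
    (fun V : X.affineOpens => (V : X.Opens)) (iSup_affineOpens_eq_top X)).2 fun V => ?_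
  show IsIso (g ∣_ (V : X.Opens))
  haveI : IsAffine (g ⁻¹ᵁ (V : X.Opens)).toScheme := haff V V.2
  haveI : IsAffine (V : X.Opens).toScheme := V.2
  haveI : IsAffineHom g := ⟨haff⟩
  exact (isIso_morphismRestrict_iff_isIso_app g V.2).2 (key V V.2)

end Thick

end Groth.Agent.Rib52
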