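import Groth.Agent.Rib52.Split
import Groth.Agent.Var76.OmegaUniv

/-!
A retraction of a square-zero thickening from a left inverse of the conormal-to-differentials map.
-/

set_option autoImplicit false
set_option linter.style.haveILetI false
universe u

open CategoryTheory CategoryTheory.Limits AlgebraicGeometry TopologicalSpace Opposite

namespace Groth.Agent.Rib52

open Var76.LineBundle Var76.OmegaUniv

theorem hom_ext_of_cover {X Y : Scheme.{u}} {f g : X ⟶ Y} {ι : Type u} (U : ι → X.Opens)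
    (hU : ∀ j, IsAffineOpen (U j)) (hcov : ∀ x, ∃ j, x ∈ U j) (F : ι → Y.Opens) (hF : ∀ j, IsAffineOpen (F j))
    (h : ∀ j, ∃ (e : U j ≤ f ⁻¹ᵁ F j) (e' : U j ≤ g ⁻¹ᵁ F j),
      f.appLE (F j) (U j) e = g.appLE (F j) (U j) e') : f = g := by
  let 𝒰 := X.openCoverOfIsOpenCover U (.mk (Opens.ext (Set.eq_univ_of_forall fun x => by
    obtain ⟨j, hj⟩ := hcov x
    exact Opens.mem_iSup.2 ⟨j, hj⟩)))
  refine 𝒰.hom_ext _ _ fun j => ?_
  obtain ⟨e, e', he⟩ := h j
  show (U j).ι ≫ f = (U j).ι ≫ g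
  rw [← IsAffineOpen.toSpecΓ_fromSpec (hU j), Category.assoc, Category.assoc,
    ← (hF j).SpecMap_appLE_fromSpec f (hU j) e, ← (hF j).SpecMap_appLE_fromSpec g (hU j) e', he]

theorem exists_retraction {C D S : Scheme.{u}} (i : D ⟶ C) [IsClosedImmersion i] (hi : SqZero i)
    (p : C ⟶ S) [IsAffine S] (Ω : C.Modules) (d : OmegaSh.Der p Ω)
    (φ : Omega.conormal i ⟶ (Scheme.Modules.pullback i).obj Ω) (hφ : OmegaSh.IsConormalDiff i d φ)
    (ρ : (Scheme.Modules.pullback i).obj Ω ⟶ Omega.conormal i) (hρ : φ ≫ ρ = 𝟙 _) :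
    ∃ r : C ⟶ D, i ≫ r = 𝟙 D ∧ r ≫ i ≫ p = p := by
  let dv : ∀ W : C.Opens, Γ(C, W) → Γ(Omega.conormal i, i ⁻¹ᵁ W) := fun W x =>
    ρ.app _ (OmegaSh.pullSect i Ω W (d.app W x))
  have dv_add : ∀ W x y, dv W (x + y) = dv W x + dv W y := fun W x y => by simp [dv]
  have dv_mul : ∀ W x y, dv W (x * y) =
      i.app W x • dv W y + i.app W y • dv W x := fun W x y => by
    simp only [dv, Der.map_mul, map_add, OmegaSh.pullSect_smul, Scheme.Modules.Hom.app_smul]
  have dv_const : ∀ W V (e : W ≤ p ⁻¹ᵁ V) c, dv W (p.appLE V W e c) = 0 := fun W V e c => by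
    simp only [dv, Der.appLE, map_zero]
  have dv_ker : ∀ W t, dv W (OmegaSh.idealSect i.ker W t) = OmegaSh.conormalSect i W t := fun W t => by
    simp only [dv]
    rw [← hφ W t]
    exact congr(Scheme.Modules.Hom.app $hρ _ _)
  have dv_res : ∀ (W V : C.Opens) (h : V ≤ W) x, dv V (C.presheaf.map (homOfLE h).op x) =
      res (Omega.conormal i) (i.preimage_mono h) (dv W x) := fun W V h x => by
    have h1 : d.app V (C.presheaf.map (homOfLE h).op x) = res Ω h (d.app W x) := Der.res d h x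
    simp only [dv]
    rw [h1, ← Mero90.app_res ρ (i.preimage_mono h)]
    refine congrArg (ρ.app _) ?_
    exact OmegaSh.pullSect_map i Ω h _
  let s₀ : ∀ W : C.affineOpens, Γ(C, W) →+* Γ(C, W) := fun W =>
    { toFun := fun x => x - eps i hi W.2 rfl (dv W x)
      map_one' := by
        have h := dv_mul W 1 1
        simp only [one_mul, map_one, one_smul, left_eq_add] at h
        rw [h, map_zero, sub_zero]
      map_mul' := fun x y => by
        have key : ∀ a v, eps i hi W.2 rfl (i.app W a • v) = a * eps i hi W.2 rfl v := fun a v => by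
          rw [Scheme.Hom.app_eq_appLE]; exact eps_smul i hi W.2 rfl a v
        have h0 := mul_eq_zero_of_app i (x := eps i hi W.2 rfl (dv W x)) (y := eps i hi W.2 rfl (dv W y)) hi W.2 rfl
          (app_eps i hi W.2 rfl _) (app_eps i hi W.2 rfl _)
        rw [dv_mul, map_add, key, key]
        linear_combination (-1) * h0
      map_zero' := by
        have h := dv_add W 0 0
        simp only [add_zero, left_eq_add] at h
        rw [h, map_zero, sub_zero]
      map_add' := fun x y => by rw [dv_add, map_add]; abel }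
  have hker : ∀ W : C.affineOpens, RingHom.ker (i.app W).hom ≤ RingHom.ker (s₀ W) := fun W x hx => by
    obtain ⟨t, rfl⟩ := Om3.exists_sect_of_app_eq_zero i x (RingHom.mem_ker.1 hx)
    rw [RingHom.mem_ker]
    show OmegaSh.idealSect i.ker W t - eps i hi W.2 rfl (dv W _) = 0
    rw [dv_ker]
    have := eps_cls i hi W.2 (rfl : i ⁻¹ᵁ (W : C.Opens) = _) t
    rw [res_id] at this
    rw [this, sub_self]
  have hsurj : ∀ W : C.affineOpens, Function.Surjective (i.app W).hom := fun W => i.app_surjective W W.2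
  let s : ∀ W : C.affineOpens, Γ(D, i ⁻¹ᵁ (W : C.Opens)) ⟶ Γ(C, W) := fun W =>
    CommRingCat.ofHom ((i.app W).hom.liftOfSurjective (hsurj W) ⟨s₀ W, hker W⟩)
  have hs : ∀ (W : C.affineOpens) x, s W (i.app W x) = x - eps i hi W.2 rfl (dv W x) := fun W x =>
    RingHom.liftOfRightInverse_comp_apply (i.app W).hom _ _ ⟨s₀ W, hker W⟩ x
  obtain ⟨r, hr⟩ := exists_hom_of_affine (fun W : C.affineOpens => ⟨i ⁻¹ᵁ (W : C.Opens), W.2.preimage i⟩)
    (fun h => i.preimage_mono h) s (by
      intro V W h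
      ext c
      obtain ⟨x, rfl⟩ := hsurj W c
      simp only [CommRingCat.comp_apply]
      have h1 : D.presheaf.map (homOfLE (i.preimage_mono h)).op (i.app W x) =
          i.app V (C.presheaf.map (homOfLE h).op x) := (congr($(Scheme.Hom.naturality i (homOfLE h).op) x)).symm
      erw [h1, hs, hs, map_sub, dv_res, ← eps_res i hi W.2 rfl V.2 rfl h (i.preimage_mono h)])
  refine ⟨r, ?_, ?_⟩
  · refine hom_ext_of_cover (fun W : C.affineOpens => i ⁻¹ᵁ (W : C.Opens)) (fun W => W.2.preimage i) (fun y => ?_)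
      (fun W => i ⁻¹ᵁ (W : C.Opens)) (fun W => W.2.preimage i) fun W => ?_
    · obtain ⟨_, ⟨V, hV, rfl⟩, hyV, -⟩ :=
        C.isBasis_affineOpens.exists_subset_of_mem_open (Set.mem_univ (i y)) isOpen_univ
      exact ⟨⟨V, hV⟩, hyV⟩
    · obtain ⟨e, he⟩ := hr W
      refine ⟨(i.preimage_mono e).trans (Scheme.Hom.comp_preimage i r _).ge, le_rfl, ?_⟩
      rw [← Scheme.Hom.appLE_comp_appLE i r (i ⁻¹ᵁ (W : C.Opens)) (W : C.Opens) (i ⁻¹ᵁ (W : C.Opens)) e le_rfl,
        OmegaSh.id_appLE_eq_id rfl]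
      erw [he]
      ext c
      obtain ⟨x, rfl⟩ := hsurj W c
      simp only [CommRingCat.comp_apply, CommRingCat.id_apply]
      rw [hs, map_sub, app_eps, sub_zero, Scheme.Hom.app_eq_appLE]
  · refine hom_ext_of_cover (fun W : C.affineOpens => (W : C.Opens)) (fun W => W.2) (fun y => ?_)
      (fun _ => ⊤) (fun _ => isAffineOpen_top S) fun W => ?_
    · obtain ⟨_, ⟨V, hV, rfl⟩, hyV, -⟩ :=
        C.isBasis_affineOpens.exists_subset_of_mem_open (Set.mem_univ y) isOpen_univ
      exact ⟨⟨V, hV⟩, hyV⟩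
    · obtain ⟨e, he⟩ := hr W
      refine ⟨le_top, le_top, ?_⟩
      rw [← Scheme.Hom.appLE_comp_appLE r (i ≫ p) ⊤ (i ⁻¹ᵁ (W : C.Opens)) (W : C.Opens) le_top e,
        ← Scheme.Hom.appLE_comp_appLE i p ⊤ (W : C.Opens) (i ⁻¹ᵁ (W : C.Opens)) le_top le_rfl]
      erw [he]
      ext c
      simp only [CommRingCat.comp_apply]
      rw [← Scheme.Hom.app_eq_appLE]
      erw [hs, dv_const, map_zero, sub_zero]

end Groth.Agent.Rib52
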