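import Groth.Agent.Rib52.ExtScheme
import Mathlib.AlgebraicGeometry.Morphisms.ClosedImmersion

/-!
The reduction of the scheme of an extension, and its structure morphism.
-/

set_option autoImplicit false
set_option linter.style.haveILetI false
universe u

open CategoryTheory CategoryTheory.Limits AlgebraicGeometry TopologicalSpace Opposite

noncomputable section

namespace Groth.Agent.Rib52

open Var76.LineBundle Var76.ZeroScheme Var76.OmegaUniv

variable {D S : Scheme.{u}} {pD : D ⟶ S} (e : ExtData pD)

set_option backward.isDefEq.respectTransparency false in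
/-- The reduction map as a morphism of presheafed spaces. -/
def inclPre : D.toPresheafedSpace ⟶ (extSpace e).toPresheafedSpace where
  base := 𝟙 _
  c :=
    { app := fun U => CommRingCat.ofHom (fnHom e U.unop)
      naturality := fun U V i => by
        ext a
        rfl }

set_option backward.isDefEq.respectTransparency false in
theorem inclPre_germ (U : D.Opens) (x : D) (hx : x ∈ U) (a : Sec e U) :
    (inclPre e).stalkMap x ((extPresheaf e).germ U x hx a) = D.presheaf.germ U x hx a.fn :=
  congr($(PresheafedSpace.stalkMap_germ (inclPre e) U x hx) a)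

set_option backward.isDefEq.respectTransparency false in
/-- The reduction as a morphism of locally ringed spaces. -/
def inclLRS : D.toLocallyRingedSpace ⟶ extSpace e :=
  ⟨inclPre e, fun x => ⟨fun z hz => by
    obtain ⟨U, hxU, a, rfl⟩ := (extPresheaf e).exists_germ_eq z
    have h := inclPre_germ e U x hxU a
    erw [h] at hz
    exact (isUnit_germ_iff e hxU a).2 hz⟩⟩

variable [e.L.IsQuasicoherent]

/-- The reduction. -/
def incl : D ⟶ extScheme e := Scheme.Hom.mk (inclLRS e)

theorem incl_app (U : D.Opens) (a : Sec e U) : (incl e).app U a = a.fn := rfl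

theorem incl_preimage (U : D.Opens) : incl e ⁻¹ᵁ U = U := rfl

/-- An open of `D` as an open of the extension. -/
theorem isAffineOpen_ext {P : D.Opens} (hP : IsAffineOpen P) : IsAffineOpen (X := extScheme e) P := by
  haveI := extSpace_local_affine e hP
  let U : (extScheme e).Opens := P
  let f : U.toScheme ⟶ Spec (LocallyRingedSpace.Γ.obj (op U.toScheme.toLocallyRingedSpace)) :=
    Scheme.Hom.mk U.toScheme.toLocallyRingedSpace.toΓSpec
  haveI : IsIso f := by
    have h : IsIso U.toScheme.toLocallyRingedSpace.toΓSpec := extSpace_local_affine e hP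
    refine ⟨Scheme.Hom.mk (inv U.toScheme.toLocallyRingedSpace.toΓSpec), ?_, ?_⟩
    · exact Scheme.Hom.ext' (IsIso.hom_inv_id U.toScheme.toLocallyRingedSpace.toΓSpec)
    · exact Scheme.Hom.ext' (IsIso.inv_hom_id U.toScheme.toLocallyRingedSpace.toΓSpec)
  exact IsAffine.of_isIso f

instance : IsClosedImmersion (incl e) where
  isClosedEmbedding := Topology.IsClosedEmbedding.id
  stalkMap_surjective x := by
    intro z
    obtain ⟨U, hxU, a, rfl⟩ := D.presheaf.exists_germ_eq z
    obtain ⟨_, ⟨P, hP, rfl⟩, hxP, hPU⟩ := D.isBasis_affineOpens.exists_subset_of_mem_open hxU U.isOpen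
    obtain ⟨b, hb⟩ := fnHom_surjective e hP (D.presheaf.map (homOfLE hPU).op a)
    refine ⟨(extPresheaf e).germ P x hxP b, ?_⟩
    refine (inclPre_germ e P x hxP b).trans ?_
    rw [show b.fn = D.presheaf.map (homOfLE hPU).op a from hb]
    exact D.presheaf.germ_res_apply _ _ _ _

theorem sqZero_incl : SqZero (incl e) := by
  intro U
  rw [Scheme.Hom.ker_apply, pow_two, eq_bot_iff, Ideal.mul_le]
  intro a ha b hb
  rw [Ideal.mem_bot]
  exact ker_fnHom_sq e (RingHom.mem_ker.1 ha) (RingHom.mem_ker.1 hb)

/-- A function on the base, as a section of the extension. -/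
def baseHom : Γ(S, ⊤) ⟶ Γ(extScheme e, ⊤) := CommRingCat.ofHom
  { toFun := fun c => ⟨pD.appLE ⊤ ⊤ le_top c, 0, (map_zero _).trans (Der.appLE e.d (U := ⊤) le_top c).symm⟩
    map_one' := Sec.ext (map_one _) rfl
    map_mul' := fun a b => Sec.ext (map_mul _ _ _) (by simp)
    map_zero' := Sec.ext (map_zero _) rfl
    map_add' := fun a b => Sec.ext (map_add _ _ _) (add_zero _).symm }

variable [IsAffine S]

/-- The structure morphism. -/
def proj' : extScheme e ⟶ S :=
  (extScheme e).toSpecΓ ≫ Spec.map (baseHom e) ≫ S.isoSpec.inv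

theorem proj'_appTop : (proj' e).appTop = baseHom e := by
  rw [proj', Scheme.Hom.comp_appTop, Scheme.Hom.comp_appTop, Category.assoc, Scheme.toSpecΓ_appTop,
    Scheme.ΓSpecIso_naturality, ← Category.assoc]
  have h := congrArg Scheme.Hom.appTop (Scheme.isoSpec_inv_toSpecΓ S)
  rw [Scheme.Hom.comp_appTop, Scheme.toSpecΓ_appTop, Scheme.Hom.id_appTop] at h
  have h2 : S.isoSpec.inv.appTop = (Scheme.ΓSpecIso Γ(S, ⊤)).inv := by
    rw [← cancel_epi (Scheme.ΓSpecIso Γ(S, ⊤)).hom, h, Iso.hom_inv_id]
  rw [h2, Iso.inv_hom_id, Category.id_comp]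

end Groth.Agent.Rib52
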