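import Mathlib.AlgebraicGeometry.GammaSpecAdjunction
import Mathlib.AlgebraicGeometry.AffineScheme
import Mathlib.Geometry.RingedSpace.OpenImmersion

/-!
A criterion for a locally ringed space to be the spectrum of its global sections.
-/

set_option autoImplicit false
set_option linter.style.haveILetI false
universe u

open CategoryTheory TopologicalSpace Opposite AlgebraicGeometry

noncomputable section

namespace Groth.Agent.Rib52

open LocallyRingedSpace

variable (Z : LocallyRingedSpace.{u})

/-- Restriction of a global section to an open. -/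
abbrev gres (V : Opens Z.toTopCat) (a : Γ.obj (op Z)) : Z.presheaf.obj (op V) :=
  Z.presheaf.map (homOfLE (le_top : V ≤ ⊤)).op a

set_option backward.isDefEq.respectTransparency false in
theorem isIso_toΓSpec_of (hhom : IsHomeomorph Z.toΓSpecFun)
    (hsurj : ∀ (r : Γ.obj (op Z)) (t : Z.presheaf.obj (op (Z.toRingedSpace.basicOpen r))),
      ∃ (n : ℕ) (a : Γ.obj (op Z)), gres Z _ r ^ n * t = gres Z _ a)
    (hker : ∀ (r a : Γ.obj (op Z)), gres Z (Z.toRingedSpace.basicOpen r) a = 0 → ∃ n : ℕ, r ^ n * a = 0) :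
    IsIso Z.toΓSpec := by
  let R := Γ.obj (op Z)
  have basis : ∀ (V : Opens Z.toTopCat) (x : Z.toTopCat), x ∈ V →
      ∃ r : R, x ∈ Z.toRingedSpace.basicOpen r ∧ Z.toRingedSpace.basicOpen r ≤ V := by
    intro V x hx
    obtain ⟨_, ⟨r, rfl⟩, hxr, hrV⟩ := PrimeSpectrum.isTopologicalBasis_basic_opens.exists_subset_of_mem_open
      (Set.mem_image_of_mem Z.toΓSpecFun hx) (hhom.isOpenMap _ V.isOpen)
    refine ⟨r, ?_, fun y hy => ?_⟩
    · have : x ∈ Z.toΓSpecFun ⁻¹' (PrimeSpectrum.basicOpen r : Set (PrimeSpectrum R)) := hxr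
      rwa [toΓSpec_preimage_basicOpen_eq] at this
    · have : y ∈ Z.toΓSpecFun ⁻¹' (PrimeSpectrum.basicOpen r : Set (PrimeSpectrum R)) := by
        rwa [toΓSpec_preimage_basicOpen_eq]
      obtain ⟨z, hz, hzy⟩ := hrV this
      exact hhom.injective hzy ▸ hz
  have germ_gres : ∀ (V : Opens Z.toTopCat) (x : Z.toTopCat) (hx : x ∈ V) (a : R),
      Z.presheaf.germ V x hx (gres Z V a) = Z.presheaf.Γgerm x a := fun V x hx a =>
    Z.presheaf.germ_res_apply _ _ _ _
  have hst : ∀ x : Z.toTopCat, IsIso (Z.toΓSpecSheafedSpace.hom.stalkMap x) := by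
    intro x
    rw [ConcreteCategory.isIso_iff_bijective]
    let p : PrimeSpectrum R := Z.toΓSpecFun x
    let S := (Spec.structureSheaf R).presheaf.stalk p
    let f : S ⟶ Z.presheaf.stalk x := Z.toΓSpecSheafedSpace.hom.stalkMap x
    have hf : ∀ a : R, f (algebraMap R S a) = Z.presheaf.Γgerm x a := fun a =>
      congr($(Z.toStalk_stalkMap_toΓSpec x) a)
    have hunit : ∀ r : R, r ∉ p.asIdeal → IsUnit (Z.presheaf.Γgerm x r) := fun r hr =>
      (Z.notMem_prime_iff_unit_in_stalk r x).1 hr
    show Function.Bijective f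
    constructor
    · rw [injective_iff_map_eq_zero]
      intro t ht
      obtain ⟨⟨a, s⟩, he⟩ := IsLocalization.surj p.asIdeal.primeCompl t
      change t * algebraMap R S s = algebraMap R S a at he
      have ha : Z.presheaf.Γgerm x a = 0 := by
        have h2 := congrArg f he
        rw [map_mul, hf, hf] at h2
        rw [← h2]
        exact mul_eq_zero_of_left ht _
      have ha' : Z.presheaf.germ ⊤ x trivial a = Z.presheaf.germ ⊤ x trivial 0 := by
        rw [map_zero]; exact ha
      obtain ⟨W, hxW, iU, iV, hW⟩ := Z.presheaf.germ_eq x _ _ a 0 ha'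
      obtain ⟨r, hxr, hrW⟩ := basis W x hxW
      have h0 : gres Z (Z.toRingedSpace.basicOpen r) a = 0 := by
        have := congrArg (Z.presheaf.map (homOfLE hrW).op) hW
        rw [map_zero, map_zero, ← ConcreteCategory.comp_apply, ← Functor.map_comp] at this
        exact this
      obtain ⟨n, hn⟩ := hker r a h0
      have hrp : r ∉ p.asIdeal := (Z.notMem_prime_iff_unit_in_stalk r x).2
        ((Z.toRingedSpace.mem_top_basicOpen r x).1 hxr)
      have h1 : algebraMap R S r ^ n * algebraMap R S a = 0 := by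
        rw [← map_pow, ← map_mul, hn, map_zero]
      have h3 : algebraMap R S a = 0 :=
        ((IsLocalization.map_units S (⟨r, hrp⟩ : p.asIdeal.primeCompl)).pow n).mul_right_eq_zero.1 h1
      rw [h3] at he
      exact (IsLocalization.map_units S s).mul_left_eq_zero.1 he
    · intro z
      obtain ⟨W, hxW, t, rfl⟩ := Z.presheaf.exists_germ_eq z
      obtain ⟨r, hxr, hrW⟩ := basis W x hxW
      obtain ⟨n, a, ha⟩ := hsurj r (Z.presheaf.map (homOfLE hrW).op t)
      have hrp : r ∉ p.asIdeal := (Z.notMem_prime_iff_unit_in_stalk r x).2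
        ((Z.toRingedSpace.mem_top_basicOpen r x).1 hxr)
      have hu : IsUnit (algebraMap R S r ^ n) :=
        (IsLocalization.map_units S (⟨r, hrp⟩ : p.asIdeal.primeCompl)).pow n
      refine ⟨algebraMap R S a * ↑hu.unit⁻¹, ?_⟩
      have h3 := congrArg (Z.presheaf.germ _ x hxr) ha
      rw [map_mul, map_pow, germ_gres, germ_gres, Z.presheaf.germ_res_apply] at h3
      have hur : IsUnit (Z.presheaf.Γgerm x r ^ n) := (hunit r hrp).pow n
      apply hur.mul_left_cancel
      refine Eq.trans ?_ h3.symm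
      rw [← hf r, ← map_pow, ← map_mul, mul_left_comm]
      have : (algebraMap R S r ^ n) * ↑hu.unit⁻¹ = 1 := hu.mul_val_inv
      rw [this, mul_one, hf]
  have hbase : IsHomeomorph (LocallyRingedSpace.forgetToSheafedSpace.map Z.toΓSpec).hom.base := hhom
  haveI : ∀ x, IsIso ((LocallyRingedSpace.forgetToSheafedSpace.map Z.toΓSpec).hom.stalkMap x) := hst
  haveI : SheafedSpace.IsOpenImmersion (LocallyRingedSpace.forgetToSheafedSpace.map Z.toΓSpec) :=
    SheafedSpace.IsOpenImmersion.of_stalk_iso _ hbase.isOpenEmbedding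
  haveI : Epi (LocallyRingedSpace.forgetToSheafedSpace.map Z.toΓSpec).hom.base :=
    (TopCat.epi_iff_surjective _).2 hbase.surjective
  haveI : IsIso (LocallyRingedSpace.forgetToSheafedSpace.map Z.toΓSpec) :=
    SheafedSpace.IsOpenImmersion.to_iso _
  exact isIso_of_reflects_iso _ LocallyRingedSpace.forgetToSheafedSpace

end Groth.Agent.Rib52
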