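import Groth.Agent.Rib52.ExtSpace
import Groth.Agent.Rib52.ToSpec
import Groth.Agent.QC70.Closure
import Mathlib.RingTheory.Spectrum.Prime.Homeomorph

/-!
The scheme of an extension of the differentials by a quasi-coherent module.
-/

set_option autoImplicit false
set_option linter.style.haveILetI false
universe u

open CategoryTheory CategoryTheory.Limits AlgebraicGeometry TopologicalSpace Opposite

noncomputable section

namespace Groth.Agent.Rib52

open Var76.LineBundle Var76.ZeroScheme Var76.OmegaUniv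

variable {D S : Scheme.{u}} {pD : D ⟶ S} (e : ExtData pD)

/-- The function underlying a section. -/
def fnHom (U : D.Opens) : Sec e U →+* Γ(D, U) where
  toFun := Sec.fn
  map_one' := rfl
  map_mul' _ _ := rfl
  map_zero' := rfl
  map_add' _ _ := rfl

/-- The square-zero section of an element of the kernel. -/
def kerSec {U : D.Opens} (l : Γ(e.L, U)) : Sec e U :=
  ⟨0, e.inc.app U l, by rw [map_zero]; exact congr(Scheme.Modules.Hom.app $(e.w) U l)⟩

theorem exists_kerSec {U : D.Opens} (a : Sec e U) (h : a.fn = 0) : ∃ l, a = kerSec e l := by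
  obtain ⟨l, hl⟩ := exists_section_of_app_eq_zero e.hS U a.om (by rw [a.cond, h, map_zero])
  exact ⟨l, Sec.ext h hl.symm⟩

theorem mul_kerSec {U : D.Opens} (a : Sec e U) (l : Γ(e.L, U)) : a * kerSec e l = kerSec e (a.fn • l) :=
  Sec.ext (mul_zero _) (by
    show a.fn • e.inc.app U l + (0 : Γ(D, U)) • a.om = e.inc.app U (a.fn • l)
    rw [zero_smul, add_zero, Scheme.Modules.Hom.app_smul])

theorem res_kerSec {U V : D.Opens} (h : V ≤ U) (l : Γ(e.L, U)) :
    Sec.resHom h (kerSec e l) = kerSec e (res e.L h l) :=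
  Sec.ext (map_zero _) (Mero90.app_res e.inc h l).symm

variable [e.L.IsQuasicoherent] {P : D.Opens} (hP : IsAffineOpen P)

include hP in
theorem fnHom_surjective : Function.Surjective (fnHom e P) := fun a => by
  obtain ⟨ω, hω⟩ := QC70.app_surjective_of_isAffineOpen (ShortComplex.mk e.inc e.proj e.w) e.hS hP (e.d.app P a)
  exact ⟨⟨a, ω, hω⟩, rfl⟩

omit [e.L.IsQuasicoherent] in
theorem ker_fnHom_sq {U : D.Opens} {a b : Sec e U} (ha : a.fn = 0) (hb : b.fn = 0) : a * b = 0 :=
  Sec.ext (by simp [ha]) (by simp [ha, hb])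

include hP in
theorem sec_exists_of (r : Sec e P) {V : D.Opens} (hV : V = D.basicOpen r.fn) (hle : V ≤ P) (t : Sec e V) :
    ∃ (n : ℕ) (a : Sec e P), Sec.resHom hle r ^ n * t = Sec.resHom hle a := by
  subst hV
  haveI : IsLocalization.Away r.fn Γ(D, D.basicOpen r.fn) := hP.isLocalization_basicOpen r.fn
  obtain ⟨⟨a, ⟨_, n, rfl⟩⟩, ha⟩ := IsLocalization.surj (Submonoid.powers r.fn) t.fn
  obtain ⟨a₀, rfl⟩ := fnHom_surjective e hP a
  set R := Sec.resHom hle r
  have hδ : (Sec.resHom hle a₀ - R ^ n * t).fn = 0 := by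
    rw [fn_sub, Sec.mul_fn, fn_pow, sub_eq_zero, Sec.resHom_fn, Sec.resHom_fn, ← map_pow, mul_comm]
    exact ha.symm
  obtain ⟨l, hl⟩ := exists_kerSec e _ hδ
  obtain ⟨m, l₀, hl₀⟩ := (QC70.isLocAt_of_isQuasicoherent e.L hP).exists_of r.fn l
  refine ⟨m + n, r ^ m * a₀ - kerSec e l₀, ?_⟩
  have h1 : R ^ m * (Sec.resHom hle a₀ - R ^ n * t) = Sec.resHom hle (kerSec e l₀) := by
    rw [hl, mul_kerSec, res_kerSec, fn_pow]
    exact congrArg (kerSec e) hl₀.symm
  rw [map_sub, map_mul, map_pow, ← h1]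
  ring

include hP in
theorem sec_eq_zero_of (r : Sec e P) {V : D.Opens} (hV : V = D.basicOpen r.fn) (hle : V ≤ P) (a : Sec e P)
    (ha : Sec.resHom hle a = 0) : ∃ n : ℕ, r ^ n * a = 0 := by
  subst hV
  haveI : IsLocalization.Away r.fn Γ(D, D.basicOpen r.fn) := hP.isLocalization_basicOpen r.fn
  have h0 : algebraMap Γ(D, P) Γ(D, D.basicOpen r.fn) a.fn = 0 := congrArg Sec.fn ha
  obtain ⟨⟨_, n, rfl⟩, hn⟩ := (IsLocalization.map_eq_zero_iff (Submonoid.powers r.fn) _ _).1 h0
  obtain ⟨l, hl⟩ := exists_kerSec e (r ^ n * a) (by rw [Sec.mul_fn, fn_pow]; exact hn)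
  have h1 : res e.L hle l = 0 := by
    refine app_injective_of_shortExact e.hS _ ?_
    have h2 : Sec.resHom hle (r ^ n * a) = 0 := by rw [map_mul, ha, mul_zero]
    rw [hl, res_kerSec] at h2
    exact (congrArg Sec.om h2).trans (map_zero _).symm
  obtain ⟨m, hm⟩ := (QC70.isLocAt_of_isQuasicoherent e.L hP).eq_zero_of r.fn l h1
  refine ⟨m + n, ?_⟩
  rw [pow_add, mul_assoc, hl, mul_kerSec, fn_pow, hm]
  exact Sec.ext rfl (map_zero _)

include hP in
theorem isHomeomorph_comap_fnHom : IsHomeomorph (PrimeSpectrum.comap (fnHom e P)) := by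
  refine PrimeSpectrum.isHomeomorph_comap _ (fun x => ⟨1, one_pos, ?_⟩) ?_
  · obtain ⟨a, rfl⟩ := fnHom_surjective e hP x
    exact ⟨a, (pow_one _).symm⟩
  · intro a ha
    exact ⟨2, by rw [pow_two]; exact ker_fnHom_sq e ha ha⟩

set_option backward.isDefEq.respectTransparency false in
include hP in
theorem extSpace_local_affine :
    IsIso ((extSpace e).restrict (P.isOpenEmbedding)).toΓSpec := by
  let U : Opens (extSpace e).toTopCat := P
  let h := U.isOpenEmbedding
  let Z := (extSpace e).restrict h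
  let P' : D.Opens := h.functor.obj ⊤
  have hP'eq : P' = P := Opens.isOpenEmbedding_obj_top U
  have hP' : IsAffineOpen P' := hP'eq ▸ hP
  have hbasic : ∀ (r : LocallyRingedSpace.Γ.obj (op Z)) (y : U), y ∈ Z.toRingedSpace.basicOpen r ↔ y.1 ∈ D.basicOpen (Sec.fn r) := by
    intro r y
    have hy : y.1 ∈ P' := hP'eq ▸ y.2
    rw [Z.toRingedSpace.mem_top_basicOpen r y, D.mem_basicOpen _ _ hy]
    refine Iff.trans ?_ (isUnit_germ_iff e hy r)
    have e2 := congr($((extSpace e).toPresheafedSpace.restrictStalkIso_hom_eq_germ h ⊤ y trivial) r)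
    rw [ConcreteCategory.comp_apply] at e2
    constructor
    · intro hu
      have := hu.map ((extSpace e).toPresheafedSpace.restrictStalkIso h y).hom.hom
      erw [e2] at this
      exact this
    · intro hu
      have h3 : IsUnit ((extSpace e).presheaf.germ P' y.1 hy r) := hu
      erw [← e2] at h3
      exact (isUnit_map_iff ((extSpace e).toPresheafedSpace.restrictStalkIso h y).hom.hom _).1 h3
  have himg : ∀ r : LocallyRingedSpace.Γ.obj (op Z), h.functor.obj (Z.toRingedSpace.basicOpen r) = D.basicOpen (Sec.fn r) := by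
    intro r
    ext x
    constructor
    · rintro ⟨y, hy, rfl⟩
      exact (hbasic r y).1 hy
    · intro hx
      have hxP : x ∈ P := hP'eq ▸ (D.basicOpen_le _ hx)
      exact ⟨⟨x, hxP⟩, (hbasic r ⟨x, hxP⟩).2 hx, rfl⟩
  refine isIso_toΓSpec_of Z ?_ (fun r t => ?_) (fun r a ha => ?_)
  · let g : U → PrimeSpectrum (Sec e P') := fun y =>
      PrimeSpectrum.comap (fnHom e P') (hP'.primeIdealOf ⟨y.1, hP'eq ▸ y.2⟩)
    have hg : IsHomeomorph g :=
      (isHomeomorph_comap_fnHom e hP').comp (hP'.isoSpec.hom.homeomorph.isHomeomorph.comp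
        (Homeomorph.setCongr (congrArg (fun V : D.Opens => (V : Set D)) hP'eq.symm)).isHomeomorph)
    have hgZ : Z.toΓSpecFun = g := by
      funext y
      refine PrimeSpectrum.ext (Ideal.ext fun r => ?_)
      have h1 : r ∉ (Z.toΓSpecFun y).asIdeal ↔ y.1 ∈ D.basicOpen (Sec.fn r) :=
        ((Z.notMem_prime_iff_unit_in_stalk r y).trans (Z.toRingedSpace.mem_top_basicOpen r y).symm).trans (hbasic r y)
      have h2 : y.1 ∈ D.basicOpen (Sec.fn r) ↔
          fnHom e P' r ∉ (hP'.primeIdealOf ⟨y.1, hP'eq ▸ y.2⟩).asIdeal := by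
        have h3 := congrArg (fun W : Opens _ => hP'.primeIdealOf ⟨y.1, hP'eq ▸ y.2⟩ ∈ W)
          (hP'.fromSpec_preimage_basicOpen (fnHom e P' r))
        simp only [eq_iff_iff] at h3
        refine Iff.trans ?_ (h3.trans (PrimeSpectrum.mem_basicOpen _ _))
        show _ ↔ hP'.fromSpec _ ∈ D.basicOpen _
        rw [hP'.fromSpec_primeIdealOf]
        rfl
      exact not_iff_not.1 (h1.trans h2)
    rw [hgZ]
    exact hg
  · obtain ⟨n, a, ha⟩ := sec_exists_of e hP' r (himg r)
      (leOfHom (h.functor.map (homOfLE le_top))) t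
    exact ⟨n, a, ha⟩
  · exact sec_eq_zero_of e hP' r (himg r) (leOfHom (h.functor.map (homOfLE le_top))) a ha

/-- The scheme of an extension. -/
def extScheme : Scheme.{u} where
  toLocallyRingedSpace := extSpace e
  local_affine x := by
    obtain ⟨_, ⟨V, hV, rfl⟩, hxV, -⟩ :=
      D.isBasis_affineOpens.exists_subset_of_mem_open (Set.mem_univ (x : D)) isOpen_univ
    let U : OpenNhds (X := (extSpace e).toTopCat) x := ⟨V, hxV⟩
    exact ⟨U, LocallyRingedSpace.Γ.obj (op ((extSpace e).restrict U.isOpenEmbedding)),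
      ⟨@asIso _ _ _ _ ((extSpace e).restrict U.isOpenEmbedding).toΓSpec (extSpace_local_affine e hV)⟩⟩

end Groth.Agent.Rib52
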