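import Groth.Agent.Rib52.Lift
import Mathlib.Topology.Sheaves.SheafCondition.UniqueGluing
import Mathlib.Geometry.RingedSpace.LocallyRingedSpace
import Mathlib.Algebra.Ring.MinimalAxioms

/-!
The locally ringed space of an extension of the differentials by a module.
-/

set_option autoImplicit false
set_option linter.style.haveILetI false
universe u

open CategoryTheory CategoryTheory.Limits AlgebraicGeometry TopologicalSpace Opposite

noncomputable section

namespace Groth.Agent.Rib52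

open Var76.LineBundle Var76.ZeroScheme Var76.OmegaUniv

/-- An extension of the module of differentials. -/
structure ExtData {D S : Scheme.{u}} (pD : D ⟶ S) where
  /-- kernel -/
  L : D.Modules
  /-- middle term -/
  E : D.Modules
  /-- differentials -/
  Om : D.Modules
  /-- derivation -/
  d : OmegaSh.Der pD Om
  /-- inclusion -/
  inc : L ⟶ E
  /-- projection -/
  proj : E ⟶ Om
  w : inc ≫ proj = 0
  hS : (ShortComplex.mk inc proj w).ShortExact

variable {D S : Scheme.{u}} {pD : D ⟶ S} (e : ExtData pD)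

/-- Sections of the structure sheaf of the extension. -/
@[ext]
structure Sec (U : D.Opens) : Type u where
  /-- the function -/
  fn : Γ(D, U)
  /-- the lift of its differential -/
  om : Γ(e.E, U)
  cond : e.proj.app U om = e.d.app U fn

namespace Sec

variable {e} {U V : D.Opens}

instance : Zero (Sec e U) := ⟨⟨0, 0, by rw [map_zero, map_zero]⟩⟩

theorem d_one : e.d.app U 1 = 0 := by
  have h := Der.map_mul e.d U 1 1
  simp only [one_mul, one_smul, left_eq_add] at h
  exact h

instance : One (Sec e U) := ⟨⟨1, 0, by rw [map_zero, d_one]⟩⟩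

instance : Add (Sec e U) := ⟨fun a b => ⟨a.fn + b.fn, a.om + b.om, by rw [map_add, map_add, a.cond, b.cond]⟩⟩

instance : Neg (Sec e U) := ⟨fun a => ⟨-a.fn, -a.om, by rw [map_neg, map_neg, a.cond]⟩⟩

instance : Mul (Sec e U) := ⟨fun a b => ⟨a.fn * b.fn, a.fn • b.om + b.fn • a.om, by
  rw [map_add, Scheme.Modules.Hom.app_smul, Scheme.Modules.Hom.app_smul, a.cond, b.cond, Der.map_mul]⟩⟩

@[simp] theorem zero_fn : (0 : Sec e U).fn = 0 := rfl
@[simp] theorem zero_om : (0 : Sec e U).om = 0 := rfl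
@[simp] theorem one_fn : (1 : Sec e U).fn = 1 := rfl
@[simp] theorem one_om : (1 : Sec e U).om = 0 := rfl
@[simp] theorem add_fn (a b : Sec e U) : (a + b).fn = a.fn + b.fn := rfl
@[simp] theorem add_om (a b : Sec e U) : (a + b).om = a.om + b.om := rfl
@[simp] theorem neg_fn (a : Sec e U) : (-a).fn = -a.fn := rfl
@[simp] theorem neg_om (a : Sec e U) : (-a).om = -a.om := rfl
@[simp] theorem mul_fn (a b : Sec e U) : (a * b).fn = a.fn * b.fn := rfl
@[simp] theorem mul_om (a b : Sec e U) : (a * b).om = a.fn • b.om + b.fn • a.om := rfl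

instance : CommRing (Sec e U) :=
  CommRing.ofMinimalAxioms
    (fun a b c => Sec.ext (add_assoc _ _ _) (add_assoc _ _ _))
    (fun a => Sec.ext (zero_add _) (zero_add _))
    (fun a => Sec.ext (neg_add_cancel _) (neg_add_cancel _))
    (fun a b c => Sec.ext (mul_assoc _ _ _) (by simp only [mul_om, mul_fn, smul_add, mul_smul]; rw [smul_comm c.fn a.fn, smul_comm c.fn b.fn]; abel))
    (fun a b => Sec.ext (mul_comm _ _) (add_comm _ _))
    (fun a => Sec.ext (one_mul _) (by simp))
    (fun a b c => Sec.ext (mul_add _ _ _) (by simp only [mul_om, add_om, add_fn, smul_add, add_smul]; abel))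

/-- Restriction. -/
def resHom (h : V ≤ U) : Sec e U →+* Sec e V where
  toFun a := ⟨D.presheaf.map (homOfLE h).op a.fn, res e.E h a.om, by
    rw [Mero90.app_res, a.cond]; exact (Der.res e.d h a.fn).symm⟩
  map_one' := Sec.ext (map_one _) (map_zero _)
  map_mul' a b := Sec.ext (map_mul _ _ _) (by
    show res e.E h (a.fn • b.om + b.fn • a.om) = fres h a.fn • res e.E h b.om + fres h b.fn • res e.E h a.om
    rw [← res_smul, ← res_smul]
    exact map_add _ _ _)
  map_zero' := Sec.ext (map_zero _) (map_zero _)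
  map_add' a b := Sec.ext (map_add (D.presheaf.map (homOfLE h).op).hom a.fn b.fn)
    (map_add (e.E.presheaf.map (homOfLE h).op).hom a.om b.om)

@[simp] theorem resHom_fn (h : V ≤ U) (a : Sec e U) : (resHom h a).fn = D.presheaf.map (homOfLE h).op a.fn := rfl
@[simp] theorem resHom_om (h : V ≤ U) (a : Sec e U) : (resHom h a).om = res e.E h a.om := rfl

end Sec

/-- The presheaf of rings of the extension. -/
def extPresheaf : TopCat.Presheaf CommRingCat.{u} D.toPresheafedSpace.carrier where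
  obj U := CommRingCat.of (Sec e U.unop)
  map {U V} i := CommRingCat.ofHom (Sec.resHom i.unop.le)
  map_id U := CommRingCat.hom_ext <| RingHom.ext fun a => Sec.ext
    (by show D.presheaf.map (𝟙 _) a.fn = a.fn; simp) (res_id _ _ _)
  map_comp {U V W} i j := CommRingCat.hom_ext <| RingHom.ext fun a => Sec.ext
    (by show D.presheaf.map _ a.fn = D.presheaf.map _ (D.presheaf.map _ a.fn)
        rw [← ConcreteCategory.comp_apply, ← Functor.map_comp]; rfl)
    (res_res _ _ _ _).symm

theorem isSheaf_extPresheaf : (extPresheaf e).IsSheaf := by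
  rw [TopCat.Presheaf.isSheaf_iff_isSheafUniqueGluing]
  intro ι U sf hsf
  let Esh : TopCat.Sheaf Ab.{u} D := ⟨e.E.presheaf, e.E.isSheaf⟩
  obtain ⟨a, ha, hau⟩ := D.sheaf.existsUnique_gluing' U (iSup U) (fun i => Opens.leSupr U i) le_rfl
    (fun i => (sf i).fn) (fun i j => congrArg Sec.fn (hsf i j))
  obtain ⟨m, hm, hmu⟩ := Esh.existsUnique_gluing' U (iSup U) (fun i => Opens.leSupr U i) le_rfl
    (fun i => (sf i).om) (fun i j => congrArg Sec.om (hsf i j))
  refine ⟨⟨a, m, eq_of_locally e.Om _ _ fun x hx => ?_⟩, fun i => Sec.ext (ha i) (hm i), fun s hs => ?_⟩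
  · obtain ⟨i, hi⟩ := Opens.mem_iSup.1 hx
    refine ⟨U i, le_iSup U i, hi, ?_⟩
    rw [← Mero90.app_res, show res e.E (le_iSup U i) m = (sf i).om from hm i, (sf i).cond, ← ha i]
    exact Der.res e.d (le_iSup U i) a
  · exact Sec.ext (hau _ fun i => congrArg Sec.fn (hs i)) (hmu _ fun i => congrArg Sec.om (hs i))

theorem germ_fn_eq_of_eq {U : D.Opens} {x : D} (hx : x ∈ U) {a : Sec e U} (ha : IsUnit a) :
    IsUnit (D.presheaf.germ U x hx a.fn) := by
  obtain ⟨u, rfl⟩ := ha
  refine (IsUnit.of_mul_eq_one (u⁻¹ : (Sec e U)ˣ).1.fn ?_).map _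
  exact congrArg Sec.fn u.mul_inv

theorem isUnit_of_fn {U : D.Opens} (a : Sec e U) (h : IsUnit a.fn) : IsUnit a := by
  obtain ⟨u, hu⟩ := h
  refine IsUnit.of_mul_eq_one ⟨↑u⁻¹, -((↑u⁻¹ * ↑u⁻¹ : Γ(D, U)) • a.om), ?_⟩ (Sec.ext ?_ ?_)
  · rw [map_neg, Scheme.Modules.Hom.app_smul, a.cond]
    have h0 := Der.map_mul e.d U (↑u : Γ(D, U)) ↑u⁻¹
    rw [Units.mul_inv, Sec.d_one] at h0
    have h1 : (↑u⁻¹ : Γ(D, U)) • (↑u : Γ(D, U)) • e.d.app U ↑u⁻¹ = e.d.app U ↑u⁻¹ := by
      rw [smul_smul, Units.inv_mul, one_smul]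
    have h2 := congrArg (fun z => (↑u⁻¹ : Γ(D, U)) • z) h0
    rw [smul_zero, smul_add, h1, smul_smul] at h2
    rw [← hu, eq_neg_of_add_eq_zero_left h2.symm]
  · show a.fn * ↑u⁻¹ = 1
    rw [← hu, Units.mul_inv]
  · show a.fn • -((↑u⁻¹ * ↑u⁻¹ : Γ(D, U)) • a.om) + (↑u⁻¹ : Γ(D, U)) • a.om = 0
    rw [smul_neg, smul_smul, ← hu, ← mul_assoc, Units.mul_inv, one_mul, neg_add_cancel]

theorem isUnit_germ_iff {U : D.Opens} {x : D} (hx : x ∈ U) (a : Sec e U) :
    IsUnit ((extPresheaf e).germ U x hx a) ↔ IsUnit (D.presheaf.germ U x hx a.fn) := by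
  constructor
  · intro h
    obtain ⟨b, hb⟩ := h.exists_right_inv
    obtain ⟨V, hxV, t, rfl⟩ := (extPresheaf e).exists_germ_eq b
    rw [← (extPresheaf e).germ_res_apply (homOfLE (inf_le_left : U ⊓ V ≤ U)) x ⟨hx, hxV⟩,
      ← (extPresheaf e).germ_res_apply (homOfLE (inf_le_right : U ⊓ V ≤ V)) x ⟨hx, hxV⟩, ← map_mul,
      ← map_one ((extPresheaf e).germ (U ⊓ V) x ⟨hx, hxV⟩).hom] at hb
    obtain ⟨W, hxW, iU, iV, hW⟩ := (extPresheaf e).germ_eq x _ _ _ _ hb
    have h2 := congrArg (fun s : Sec e W => s.fn) hW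
    rw [map_one] at h2
    refine IsUnit.of_mul_eq_one (D.presheaf.germ V x hxV t.fn) ?_
    have h3 := congrArg (D.presheaf.germ W x hxW) h2
    erw [D.presheaf.germ_res_apply] at h3
    erw [Sec.mul_fn, map_mul, D.presheaf.germ_res_apply, D.presheaf.germ_res_apply] at h3
    exact h3.trans (map_one (D.presheaf.germ W x hxW).hom)
  · intro h
    obtain ⟨V, i, hxV, hV⟩ := D.toRingedSpace.isUnit_res_of_isUnit_germ U a.fn x hx h
    rw [← (extPresheaf e).germ_res_apply i x hxV]
    exact (isUnit_of_fn e ((extPresheaf e).map i.op a) hV).map _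

/-- The locally ringed space of an extension. -/
def extSpace : LocallyRingedSpace.{u} where
  carrier := D.toPresheafedSpace.carrier
  presheaf := extPresheaf e
  IsSheaf := isSheaf_extPresheaf e
  isLocalRing x := by
    haveI : Nontrivial ((extPresheaf e).stalk x) := by
      refine ⟨0, 1, fun h => ?_⟩
      have h0 : IsUnit ((extPresheaf e).germ ⊤ x trivial 0) := by rw [map_zero, h]; exact isUnit_one
      rw [isUnit_germ_iff] at h0
      have h1 : IsUnit (D.presheaf.germ ⊤ x trivial (0 : Γ(D, ⊤))) := h0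
      rw [map_zero] at h1
      exact not_isUnit_zero h1
    refine IsLocalRing.of_isUnit_or_isUnit_one_sub_self fun z => ?_
    obtain ⟨U, hx, a, rfl⟩ := (extPresheaf e).exists_germ_eq z
    rw [← map_one ((extPresheaf e).germ U x hx).hom, ← map_sub, isUnit_germ_iff, isUnit_germ_iff]
    show IsUnit (D.presheaf.germ U x hx (Sec.fn a)) ∨ IsUnit (D.presheaf.germ U x hx (1 + -Sec.fn a))
    rw [← sub_eq_add_neg, map_sub, map_one]
    exact IsLocalRing.isUnit_or_isUnit_one_sub_self _

theorem mem_basicOpen_iff {U : D.Opens} (a : Sec e U) (x : D) :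
    x ∈ (extSpace e).toRingedSpace.basicOpen (U := U) a ↔ x ∈ D.basicOpen a.fn := by
  constructor
  · rintro ⟨hx, h⟩
    exact ⟨hx, (isUnit_germ_iff e hx a).1 h⟩
  · rintro ⟨hx, h⟩
    exact ⟨hx, (isUnit_germ_iff e hx a).2 h⟩

theorem fn_sub {U : D.Opens} (a b : Sec e U) : (a - b).fn = a.fn - b.fn := by
  rw [sub_eq_add_neg, Sec.add_fn, Sec.neg_fn, ← sub_eq_add_neg]

theorem fn_pow {U : D.Opens} (a : Sec e U) (n : ℕ) : (a ^ n).fn = a.fn ^ n := by
  induction n with
  | zero => rw [pow_zero, pow_zero]; rfl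
  | succ n ih => rw [pow_succ, pow_succ, Sec.mul_fn, ih]

end Groth.Agent.Rib52
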