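import Groth.Agent.Rib52.ExtMaps
import Groth.Agent.QC70.FiniteType
import Mathlib.AlgebraicGeometry.Morphisms.FiniteType

/-!
The structure morphism of the scheme of an extension: compatibility, and finite type.
-/

set_option autoImplicit false
set_option linter.style.haveILetI false
universe u

open CategoryTheory CategoryTheory.Limits AlgebraicGeometry TopologicalSpace Opposite

noncomputable section

namespace Groth.Agent.Rib52

open Var76.LineBundle Var76.ZeroScheme Var76.OmegaUniv

theorem map_surjective_of_le {X : Scheme.{u}} {U V : X.Opens} (h : V ≤ U) (h' : U ≤ V) :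
    Function.Surjective (X.presheaf.map (homOfLE h).op).hom := fun x => by
  obtain rfl := le_antisymm h h'
  exact ⟨x, by simp⟩

variable {D S : Scheme.{u}} {pD : D ⟶ S} (e : ExtData pD) [e.L.IsQuasicoherent] [IsAffine S]

/-- An open of the base as an open of the extension. -/
abbrev up (P : D.Opens) : (extScheme e).Opens := P

theorem incl_proj' : incl e ≫ proj' e = pD := by
  refine ext_of_isAffine ?_
  rw [Scheme.Hom.comp_appTop, proj'_appTop]
  ext c
  exact congr($((Scheme.Hom.app_eq_appLE (f := pD) (U := ⊤)).symm) c)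

variable [e.L.IsFiniteType] [LocallyOfFiniteType pD]

theorem finiteType_chart {P : D.Opens} (hP : IsAffineOpen P) :
    ((proj' e).appLE ⊤ (up e P) le_top).hom.FiniteType := by
  let ρ : Γ(S, ⊤) →+* Sec e P := ((proj' e).appLE ⊤ (up e P) le_top).hom
  have hρ : ∀ c, (ρ c).fn = pD.appLE ⊤ P le_top c := fun c => by
    have key : ∀ (g : D ⟶ S) (h : P ≤ g ⁻¹ᵁ ⊤), g = incl e ≫ proj' e →
        g.appLE ⊤ P h c = (incl e).appLE (up e P) P le_rfl (ρ c) := by
      rintro g h rfl
      exact congr($((Scheme.Hom.appLE_comp_appLE (incl e) (proj' e) ⊤ (up e P) P le_top le_rfl).symm) c)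
    rw [key pD le_top (incl_proj' e).symm]
    exact congr($(Scheme.Hom.app_eq_appLE (f := incl e) (U := up e P)) (ρ c))
  have hft : (pD.appLE ⊤ P le_top).hom.FiniteType :=
    pD.finiteType_appLE (isAffineOpen_top S) hP le_top
  letI := ρ.toAlgebra
  letI := (pD.appLE ⊤ P le_top).hom.toAlgebra
  obtain ⟨G, hG⟩ := (show Algebra.FiniteType Γ(S, ⊤) Γ(D, P) from hft).out
  haveI : Module.Finite Γ(D, P) Γ(e.L, P) := QC70.finite_sections_of_isFiniteType e.L hP
  obtain ⟨T, hT⟩ := (inferInstance : Module.Finite Γ(D, P) Γ(e.L, P)).fg_top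
  choose lft hlft using fnHom_surjective e hP
  classical
  show Algebra.FiniteType Γ(S, ⊤) (Sec e P)
  refine ⟨⟨G.image lft ∪ T.image (fun l => kerSec e l), eq_top_iff.2 fun a _ => ?_⟩⟩
  let A := Algebra.adjoin Γ(S, ⊤) ((G.image lft ∪ T.image (fun l => kerSec e l) : Finset (Sec e P)) : Set (Sec e P))
  show a ∈ A
  have hfn : ∀ c : Γ(D, P), ∃ b ∈ A, b.fn = c := fun c => by
    have hc : c ∈ Algebra.adjoin Γ(S, ⊤) (G : Set Γ(D, P)) := by rw [hG]; trivial
    induction hc using Algebra.adjoin_induction with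
    | mem x hx =>
      exact ⟨lft x, Algebra.subset_adjoin (Finset.mem_coe.2 (Finset.mem_union_left _ (Finset.mem_image_of_mem _ hx))), hlft x⟩
    | algebraMap r => exact ⟨ρ r, A.algebraMap_mem r, hρ r⟩
    | add x y _ _ hx hy =>
      obtain ⟨b, hb, rfl⟩ := hx
      obtain ⟨b', hb', rfl⟩ := hy
      exact ⟨b + b', add_mem hb hb', rfl⟩
    | mul x y _ _ hx hy =>
      obtain ⟨b, hb, rfl⟩ := hx
      obtain ⟨b', hb', rfl⟩ := hy
      exact ⟨b * b', mul_mem hb hb', rfl⟩
  have hker : ∀ l : Γ(e.L, P), kerSec e l ∈ A := fun l => by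
    have hl : l ∈ Submodule.span Γ(D, P) (T : Set Γ(e.L, P)) := by rw [hT]; trivial
    induction hl using Submodule.span_induction with
    | mem x hx =>
      exact Algebra.subset_adjoin (Finset.mem_coe.2 (Finset.mem_union_right _ (Finset.mem_image_of_mem _ hx)))
    | zero =>
      rw [show kerSec e (0 : Γ(e.L, P)) = 0 from Sec.ext rfl (map_zero _)]
      exact zero_mem A
    | add x y _ _ hx hy =>
      rw [show kerSec e (x + y) = kerSec e x + kerSec e y from Sec.ext (add_zero _).symm (map_add _ _ _)]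
      exact add_mem hx hy
    | smul c x _ hx =>
      obtain ⟨b, hb, rfl⟩ := hfn c
      rw [← mul_kerSec]
      exact mul_mem hb hx
  obtain ⟨b, hb, hba⟩ := hfn a.fn
  obtain ⟨l, hl⟩ := exists_kerSec e (a - b) (by rw [fn_sub, hba, sub_self])
  rw [sub_eq_iff_eq_add] at hl
  rw [hl]
  exact add_mem (hker l) hb

instance locallyOfFiniteType_proj' : LocallyOfFiniteType (proj' e) := by
  refine (IsZariskiLocalAtSource.iff_of_openCover (P := @LocallyOfFiniteType) ((extScheme e).openCoverOfIsOpenCover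
    (fun P : D.affineOpens => (up e P.1)) (.mk (iSup_affineOpens_eq_top D)))).2 fun P => ?_
  let U : (extScheme e).Opens := (up e P.1)
  haveI : IsAffine U.toScheme := isAffineOpen_ext e P.2
  show LocallyOfFiniteType (U.ι ≫ proj' e)
  rw [HasRingHomProperty.iff_of_isAffine (P := @LocallyOfFiniteType)]
  have hU : U.ι ⁻¹ᵁ U = ⊤ := U.ι_preimage_self
  rw [Scheme.Hom.appTop, Scheme.Hom.app_eq_appLE]
  show ((U.ι ≫ proj' e).appLE ⊤ ⊤ le_top).hom.FiniteType
  rw [← Scheme.Hom.appLE_comp_appLE U.ι (proj' e) ⊤ U ⊤ le_top hU.ge]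
  refine RingHom.FiniteType.comp ?_ (finiteType_chart e P.2)
  refine RingHom.FiniteType.of_surjective _ ?_
  rw [Scheme.Opens.ι_appLE]
  exact map_surjective_of_le _ U.ι_image_top.ge

end Groth.Agent.Rib52
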