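import Groth.Agent.Rib52.AffineHom
import Groth.Agent.Rib52.Conormal
import Groth.Prelude.Def_Omega4

/-!
Square-zero thickenings with a retraction: splitting of the sections over affine opens, and
morphisms between split thickenings coming from maps of conormal sheaves.
-/

set_option autoImplicit false
set_option linter.style.haveILetI false
universe u

open CategoryTheory CategoryTheory.Limits AlgebraicGeometry TopologicalSpace Opposite

namespace Groth.Agent.Rib52

open Var76.LineBundle Var76.ZeroScheme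

/-- Restriction to the same open. -/
theorem res_id {Y : Scheme.{u}} (L : Y.Modules) {U : Y.Opens} (h : U ≤ U) (m : Γ(L, U)) : res L h m = m := by
  simp [res]

variable {C D : Scheme.{u}} (i : D ⟶ C) [IsClosedImmersion i]

/-- All kernels of the maps on sections over affine opens have square zero. -/
def SqZero : Prop := ∀ U : C.affineOpens, i.ker.ideal U ^ 2 = ⊥

variable {i}

theorem SqZero.app (hi : SqZero i) {W : C.Opens} (hW : IsAffineOpen W) :
    RingHom.ker (i.app W).hom ^ 2 = ⊥ := by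
  rw [← Scheme.Hom.ker_apply i ⟨W, hW⟩]; exact hi ⟨W, hW⟩

theorem SqZero.surjective (hi : SqZero i) : Surjective i :=
  CartMod7.surjective_of_nilpotent i ⟨2, hi⟩

variable (i)

theorem exists_eps (hi : SqZero i) {W : C.Opens} (hW : IsAffineOpen W) {P : D.Opens} (e : i ⁻¹ᵁ W = P) :
    ∃ ε : Γ(Omega.conormal i, P) →+ Γ(C, W),
      (∀ t, ε (res (Omega.conormal i) e.ge (OmegaSh.conormalSect i W t)) = OmegaSh.idealSect i.ker W t) ∧
      Function.Surjective fun t => res (Omega.conormal i) e.ge (OmegaSh.conormalSect i W t) := by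
  subst e
  have hs : Function.Surjective (OmegaSh.conormalSect i W) :=
    Om3.conormalSect_surjective i hW (hW.preimage i) (i.app_surjective W hW)
  have hi' : Function.Injective (OmegaSh.conormalSect i W) := by
    refine (injective_iff_map_eq_zero _).2 fun t ht => ?_
    exact (Om3.conormalSect_eq_zero_iff_of_sq i hW (hW.preimage i) (i.app_surjective W hW) (hi.app hW) t).1 ht
  let E := AddEquiv.ofBijective (OmegaSh.conormalSect i W).hom ⟨hi', hs⟩
  refine ⟨(OmegaSh.idealSect i.ker W).comp E.symm.toAddMonoidHom, fun t => ?_, fun v => ?_⟩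
  · rw [res_id]
    exact congrArg (OmegaSh.idealSect i.ker W) (E.symm_apply_apply t)
  · obtain ⟨t, rfl⟩ := hs v
    exact ⟨t, res_id _ _ _⟩

variable {W : C.Opens} {P : D.Opens}

/-- The inclusion of the classes in the conormal sheaf as square-zero elements. -/
noncomputable def eps (hi : SqZero i) (hW : IsAffineOpen W) (e : i ⁻¹ᵁ W = P) :
    Γ(Omega.conormal i, P) →+ Γ(C, W) :=
  (exists_eps i hi hW e).choose

theorem eps_cls (hi : SqZero i) (hW : IsAffineOpen W) (e : i ⁻¹ᵁ W = P) (t : Γ(ClSub.idealMod i.ker, W)) :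
    eps i hi hW e (res (Omega.conormal i) e.ge (OmegaSh.conormalSect i W t)) = OmegaSh.idealSect i.ker W t :=
  (exists_eps i hi hW e).choose_spec.1 t

theorem exists_cls (hi : SqZero i) (hW : IsAffineOpen W) (e : i ⁻¹ᵁ W = P) (v : Γ(Omega.conormal i, P)) :
    ∃ t, res (Omega.conormal i) e.ge (OmegaSh.conormalSect i W t) = v :=
  (exists_eps i hi hW e).choose_spec.2 v

variable (hi : SqZero i) (hW : IsAffineOpen W) (e : i ⁻¹ᵁ W = P)

theorem app_eps (v : Γ(Omega.conormal i, P)) : i.appLE W P e.ge (eps i hi hW e v) = 0 := by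
  obtain ⟨t, rfl⟩ := exists_cls i hi hW e v
  rw [eps_cls]
  subst e
  rw [← Scheme.Hom.app_eq_appLE]
  exact FlatMor67.app_idealSect i W t

theorem eps_injective : Function.Injective (eps i hi hW e) := fun v w h => by
  obtain ⟨t, rfl⟩ := exists_cls i hi hW e v
  obtain ⟨t', rfl⟩ := exists_cls i hi hW e w
  rw [eps_cls, eps_cls] at h
  rw [Omega57.idealSect_injective _ _ h]

theorem exists_eps_eq (x : Γ(C, W)) (hx : i.appLE W P e.ge x = 0) : ∃ v, eps i hi hW e v = x := by
  subst e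
  rw [← Scheme.Hom.app_eq_appLE] at hx
  obtain ⟨t, ht⟩ := Om3.exists_sect_of_app_eq_zero i x hx
  exact ⟨_, (eps_cls i hi hW rfl t).trans ht⟩

theorem eps_smul (a : Γ(C, W)) (v : Γ(Omega.conormal i, P)) :
    eps i hi hW e (i.appLE W P e.ge a • v) = a * eps i hi hW e v := by
  obtain ⟨t, rfl⟩ := exists_cls i hi hW e v
  have h : i.appLE W P e.ge a • res (Omega.conormal i) e.ge (OmegaSh.conormalSect i W t) =
      res (Omega.conormal i) e.ge (OmegaSh.conormalSect i W (a • t)) := by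
    subst e
    rw [← Scheme.Hom.app_eq_appLE, res_id, res_id, Om3.conormalSect_smul]
  rw [h, eps_cls, eps_cls, Omega57.idealSect_smul]

theorem mul_eq_zero_of_app {x y : Γ(C, W)} (hi : SqZero i) (hW : IsAffineOpen W) (e : i ⁻¹ᵁ W = P)
    (hx : i.appLE W P e.ge x = 0) (hy : i.appLE W P e.ge y = 0) : x * y = 0 := by
  subst e
  rw [← Scheme.Hom.app_eq_appLE] at hx hy
  have h := Ideal.mul_mem_mul (RingHom.mem_ker.2 hx) (RingHom.mem_ker.2 hy)
  rwa [← pow_two, hi.app hW, Ideal.mem_bot] at h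

theorem eps_res {V : C.Opens} {Q : D.Opens} (hV : IsAffineOpen V) (e' : i ⁻¹ᵁ V = Q) (h : V ≤ W) (h' : Q ≤ P)
    (v : Γ(Omega.conormal i, P)) :
    eps i hi hV e' (res (Omega.conormal i) h' v) = C.presheaf.map (homOfLE h).op (eps i hi hW e v) := by
  obtain ⟨t, rfl⟩ := exists_cls i hi hW e v
  rw [eps_cls, ← Om3.idealSect_res, ← eps_cls i hi hV e', conormalSect_res, res_res, res_res]

theorem eq_retract_preimage (hi : SqZero i) {r : C ⟶ D} (hr : i ≫ r = 𝟙 D) (e : i ⁻¹ᵁ W = P) :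
    W = r ⁻¹ᵁ P := by
  haveI := hi.surjective
  ext x
  obtain ⟨y, rfl⟩ := i.surjective x
  show i y ∈ W ↔ r (i y) ∈ P
  rw [← Scheme.Hom.comp_apply, hr, ← e]
  rfl

theorem preimage_retract {r : C ⟶ D} (hr : i ≫ r = 𝟙 D) (P : D.Opens) : i ⁻¹ᵁ (r ⁻¹ᵁ P) = P := by
  rw [← Scheme.Hom.comp_preimage, hr]; rfl

theorem app_retract {r : C ⟶ D} (hr : i ≫ r = 𝟙 D) (hrP : W ≤ r ⁻¹ᵁ P) (e : i ⁻¹ᵁ W = P) (c : Γ(D, P)) :
    i.appLE W P e.ge (r.appLE P W hrP c) = c := by
  rw [← ConcreteCategory.comp_apply, Scheme.Hom.appLE_comp_appLE, OmegaSh.id_appLE_eq_id hr]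
  rfl

section Two

variable {C' : Scheme.{u}} (i' : D ⟶ C') [IsClosedImmersion i'] (hi' : SqZero i')
  {r : C ⟶ D} (hr : i ≫ r = 𝟙 D) {r' : C' ⟶ D} (hr' : i' ≫ r' = 𝟙 D)

include hr hr' in
theorem exists_ringHom (a : Omega.conormal i' ⟶ Omega.conormal i) {W' : C'.Opens} (hW' : IsAffineOpen W')
    (e' : i' ⁻¹ᵁ W' = P) :
    ∃ s : Γ(C', W') ⟶ Γ(C, W), ∀ x v,
      eps i' hi' hW' e' v = x - r'.appLE P W' (eq_retract_preimage i' hi' hr' e').le (i'.appLE W' P e'.ge x) →
      s x = r.appLE P W (eq_retract_preimage i hi hr e).le (i'.appLE W' P e'.ge x) + eps i hi hW e (a.app P v) := by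
  set R := r.appLE P W (eq_retract_preimage i hi hr e).le
  set R' := r'.appLE P W' (eq_retract_preimage i' hi' hr' e').le
  have hex : ∀ x, ∃ v, eps i' hi' hW' e' v = x - R' (i'.appLE W' P e'.ge x) := fun x =>
    exists_eps_eq i' hi' hW' e' _ (by rw [map_sub, app_retract i' hr' _ e', sub_self])
  choose d hd using hex
  have inj := eps_injective i' hi' hW' e'
  have d_add : ∀ x y, d (x + y) = d x + d y := fun x y => inj (by
    rw [map_add (eps i' hi' hW' e'), hd, hd, hd, map_add (i'.appLE W' P e'.ge).hom, map_add R'.hom]; abel)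
  have d_one : d 1 = 0 := inj (by
    rw [hd, map_zero (eps i' hi' hW' e'), map_one (i'.appLE W' P e'.ge).hom, map_one R'.hom, sub_self])
  have d_mul : ∀ x y, d (x * y) = i'.appLE W' P e'.ge x • d y + i'.appLE W' P e'.ge y • d x := fun x y => inj (by
    rw [map_add (eps i' hi' hW' e'), eps_smul, eps_smul, hd, hd, hd, map_mul (i'.appLE W' P e'.ge).hom, map_mul R'.hom]
    have h0 := mul_eq_zero_of_app i' (x := x - R' (i'.appLE W' P e'.ge x)) (y := y - R' (i'.appLE W' P e'.ge y)) hi' hW' e'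
      (by rw [map_sub, app_retract i' hr' _ e', sub_self]) (by rw [map_sub, app_retract i' hr' _ e', sub_self])
    linear_combination (-1) * h0)
  refine ⟨CommRingCat.ofHom
    { toFun := fun x => R (i'.appLE W' P e'.ge x) + eps i hi hW e (a.app P (d x))
      map_one' := by simp [d_one]
      map_mul' := fun x y => ?_
      map_zero' := by
        have : d 0 = 0 := by simpa using d_add 0 0
        simp [this]
      map_add' := fun x y => by
        simp only [d_add, map_add]; abel }, fun x v hv => ?_⟩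
  · have key : ∀ c w, eps i hi hW e (c • w) = R c * eps i hi hW e w := fun c w => by
      rw [← eps_smul i hi hW e (R c) w, app_retract i hr _ e]
    have h0 := mul_eq_zero_of_app i (x := eps i hi hW e (a.app P (d x))) (y := eps i hi hW e (a.app P (d y))) hi hW e
      (app_eps i hi hW e _) (app_eps i hi hW e _)
    simp only [d_mul, map_mul, map_add, Scheme.Modules.Hom.app_smul, key]
    linear_combination (-1) * h0
  · show R (i'.appLE W' P e'.ge x) + eps i hi hW e (a.app P (d x)) = _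
    rw [inj ((hd x).trans hv.symm)]

end Two

theorem exists_hom_of_conormal {C' : Scheme.{u}} (i' : D ⟶ C') [IsClosedImmersion i'] (hi : SqZero i)
    (hi' : SqZero i') {r : C ⟶ D} (hr : i ≫ r = 𝟙 D) {r' : C' ⟶ D} (hr' : i' ≫ r' = 𝟙 D)
    (a : Omega.conormal i' ⟶ Omega.conormal i) :
    ∃ ψ : C ⟶ C', i ≫ ψ = i' ∧ ψ ≫ r' = r ∧
      ∀ {W : C.Opens} (hW : IsAffineOpen W) {P : D.Opens} (e : i ⁻¹ᵁ W = P) {W' : C'.Opens}
        (hW' : IsAffineOpen W') (e' : i' ⁻¹ᵁ W' = P), ∃ le : W ≤ ψ ⁻¹ᵁ W', ∀ x v,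
        eps i' hi' hW' e' v = x - r'.appLE P W' (eq_retract_preimage i' hi' hr' e').le (i'.appLE W' P e'.ge x) →
        ψ.appLE W' W le x =
          r.appLE P W (eq_retract_preimage i hi hr e).le (i'.appLE W' P e'.ge x) + eps i hi hW e (a.app P v) := by
  haveI := hi'.surjective
  let F : C.affineOpens → C'.affineOpens := fun W => ⟨r' ⁻¹ᵁ (i ⁻¹ᵁ (W : C.Opens)),
    CartMod7.isAffineOpen_map i' (𝟙 D) r'.base (by rw [← Scheme.Hom.comp_base, hr']) (W.2.preimage i)⟩
  choose s hs using fun W : C.affineOpens => exists_ringHom i hi W.2 (P := i ⁻¹ᵁ (W : C.Opens)) rfl i' hi' hr hr' a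
    (F W).2 (preimage_retract i' hr' _)
  obtain ⟨ψ, hψ⟩ := exists_hom_of_affine F (fun h => r'.preimage_mono (i.preimage_mono h)) s (by
    intro V W h
    ext x
    obtain ⟨v, hv⟩ := exists_eps_eq i' hi' (F W).2 (preimage_retract i' hr' _)
      (x - r'.appLE _ _ (eq_retract_preimage i' hi' hr' (preimage_retract i' hr' (i ⁻¹ᵁ (W : C.Opens)))).le
        (i'.appLE _ _ (preimage_retract i' hr' (i ⁻¹ᵁ (W : C.Opens))).ge x))
      (by rw [map_sub, app_retract i' hr' _ (preimage_retract i' hr' _), sub_self])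
    have hv' := congrArg (C'.presheaf.map (homOfLE (r'.preimage_mono (i.preimage_mono h))).op) hv
    rw [← eps_res i' hi' (F W).2 _ (F V).2 (preimage_retract i' hr' _) _ (i.preimage_mono h), map_sub] at hv'
    simp only [CommRingCat.comp_apply]
    rw [hs W x v hv, hs V (C'.presheaf.map (homOfLE _).op x) (res (Omega.conormal i') (i.preimage_mono h) v) (by
      refine hv'.trans (congrArg₂ (· - ·) rfl ?_)
      simp only [← ConcreteCategory.comp_apply, Scheme.Hom.appLE_map, Scheme.Hom.map_appLE,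
        Scheme.Hom.appLE_comp_appLE]
      rfl),
      map_add, ← eps_res i hi W.2 rfl V.2 rfl h (i.preimage_mono h), Mero90.app_res]
    congr 1
    simp only [← ConcreteCategory.comp_apply, Scheme.Hom.appLE_map, Scheme.Hom.map_appLE,
      Scheme.Hom.appLE_comp_appLE])
  have spec : ∀ {W : C.Opens} (hW : IsAffineOpen W) {P : D.Opens} (e : i ⁻¹ᵁ W = P) {W' : C'.Opens}
      (hW' : IsAffineOpen W') (e' : i' ⁻¹ᵁ W' = P), ∃ le : W ≤ ψ ⁻¹ᵁ W', ∀ x v,
      eps i' hi' hW' e' v = x - r'.appLE P W' (eq_retract_preimage i' hi' hr' e').le (i'.appLE W' P e'.ge x) →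
      ψ.appLE W' W le x =
        r.appLE P W (eq_retract_preimage i hi hr e).le (i'.appLE W' P e'.ge x) + eps i hi hW e (a.app P v) := by
    intro W hW P e W' hW' e'
    subst e
    obtain rfl := eq_retract_preimage i' hi' hr' e'
    obtain ⟨le, hle⟩ := hψ ⟨W, hW⟩
    exact ⟨le, fun x v hv => (congr($hle x)).trans (hs ⟨W, hW⟩ x v hv)⟩
  refine ⟨ψ, ?_, ?_, spec⟩
  · refine hom_ext_of_appLE (fun Q => ⟨r' ⁻¹ᵁ (Q : D.Opens),
      CartMod7.isAffineOpen_map i' (𝟙 D) r'.base (by rw [← Scheme.Hom.comp_base, hr']) Q.2⟩) fun Q => ?_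
    haveI := hi.surjective
    have hWa : IsAffineOpen (r ⁻¹ᵁ (Q : D.Opens)) :=
      CartMod7.isAffineOpen_map i (𝟙 D) r.base (by rw [← Scheme.Hom.comp_base, hr]) Q.2
    have hW'a : IsAffineOpen (r' ⁻¹ᵁ (Q : D.Opens)) :=
      CartMod7.isAffineOpen_map i' (𝟙 D) r'.base (by rw [← Scheme.Hom.comp_base, hr']) Q.2
    obtain ⟨le, hle⟩ := spec hWa (preimage_retract i hr _) hW'a (preimage_retract i' hr' _)
    refine ⟨(preimage_retract i hr _).ge.trans ((i.preimage_mono le).trans (Scheme.Hom.comp_preimage i ψ _).ge),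
      (preimage_retract i' hr' _).ge, ?_⟩
    ext x
    obtain ⟨v, hv⟩ := exists_eps_eq i' hi' hW'a (preimage_retract i' hr' _)
      (x - r'.appLE (Q : D.Opens) (r' ⁻¹ᵁ (Q : D.Opens)) le_rfl (i'.appLE _ _ (preimage_retract i' hr' _).ge x))
      (by rw [map_sub, app_retract i' hr' _ (preimage_retract i' hr' _), sub_self])
    rw [← Scheme.Hom.appLE_comp_appLE i ψ (r' ⁻¹ᵁ (Q : D.Opens)) (r ⁻¹ᵁ (Q : D.Opens)) (Q : D.Opens) le
      (preimage_retract i hr _).ge, CommRingCat.comp_apply, hle x v hv, map_add,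
      app_retract i hr _ (preimage_retract i hr _), app_eps i hi hWa (preimage_retract i hr _), add_zero]
  · refine hom_ext_of_appLE (f := ψ ≫ r') (g := r) (fun W => ⟨i ⁻¹ᵁ (W : C.Opens), W.2.preimage i⟩) fun W => ?_
    obtain ⟨le, hle⟩ := spec W.2 rfl (F W).2 (preimage_retract i' hr' _)
    refine ⟨le, (eq_retract_preimage i hi hr rfl).le, ?_⟩
    ext c
    rw [← Scheme.Hom.appLE_comp_appLE ψ r' (i ⁻¹ᵁ (W : C.Opens)) (F W : C'.Opens) (W : C.Opens) le_rfl le,
      CommRingCat.comp_apply, hle _ 0 (by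
        rw [map_zero, app_retract i' hr' _ (preimage_retract i' hr' _), sub_self]),
      app_retract i' hr' _ (preimage_retract i' hr' _), map_zero, map_zero, add_zero]

theorem exists_iso_of_conormal {C' : Scheme.{u}} (i' : D ⟶ C') [IsClosedImmersion i'] (hi : SqZero i)
    (hi' : SqZero i') {r : C ⟶ D} (hr : i ≫ r = 𝟙 D) {r' : C' ⟶ D} (hr' : i' ≫ r' = 𝟙 D)
    (θ : Omega.conormal i ≅ Omega.conormal i') :
    ∃ ψ : C ≅ C', i ≫ ψ.hom = i' ∧ ψ.hom ≫ r' = r := by
  obtain ⟨f, hf1, hf2, hf⟩ := exists_hom_of_conormal i i' hi hi' hr hr' θ.inv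
  obtain ⟨g, -, -, hg⟩ := exists_hom_of_conormal i' i hi' hi hr' hr θ.hom
  have main : ∀ {A B : Scheme.{u}} (j : D ⟶ A) [IsClosedImmersion j] (j' : D ⟶ B) [IsClosedImmersion j']
      (hj : SqZero j) (hj' : SqZero j') {q : A ⟶ D} (hq : j ≫ q = 𝟙 D) {q' : B ⟶ D} (hq' : j' ≫ q' = 𝟙 D)
      (a : Omega.conormal j' ⟶ Omega.conormal j) (b : Omega.conormal j ⟶ Omega.conormal j') (hab : b ≫ a = 𝟙 _)
      (f : A ⟶ B) (g : B ⟶ A)
      (_ : ∀ {W : A.Opens} (hW : IsAffineOpen W) {P : D.Opens} (e : j ⁻¹ᵁ W = P) {W' : B.Opens}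
        (hW' : IsAffineOpen W') (e' : j' ⁻¹ᵁ W' = P), ∃ le : W ≤ f ⁻¹ᵁ W', ∀ x v,
        eps j' hj' hW' e' v = x - q'.appLE P W' (eq_retract_preimage j' hj' hq' e').le (j'.appLE W' P e'.ge x) →
        f.appLE W' W le x =
          q.appLE P W (eq_retract_preimage j hj hq e).le (j'.appLE W' P e'.ge x) + eps j hj hW e (a.app P v))
      (_ : ∀ {W' : B.Opens} (hW' : IsAffineOpen W') {P : D.Opens} (e' : j' ⁻¹ᵁ W' = P) {W : A.Opens}
        (hW : IsAffineOpen W) (e : j ⁻¹ᵁ W = P), ∃ le : W' ≤ g ⁻¹ᵁ W, ∀ x v,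
        eps j hj hW e v = x - q.appLE P W (eq_retract_preimage j hj hq e).le (j.appLE W P e.ge x) →
        g.appLE W W' le x =
          q'.appLE P W' (eq_retract_preimage j' hj' hq' e').le (j.appLE W P e.ge x) + eps j' hj' hW' e' (b.app P v)),
      f ≫ g = 𝟙 A := by
    intro A B j _ j' _ hj hj' q hq q' hq' a b hab f g hf hg
    refine hom_ext_of_appLE (fun W => W) fun W => ?_
    haveI := hj'.surjective
    have hB : IsAffineOpen (q' ⁻¹ᵁ (j ⁻¹ᵁ (W : A.Opens))) :=
      CartMod7.isAffineOpen_map j' (𝟙 D) q'.base (by rw [← Scheme.Hom.comp_base, hq']) (W.2.preimage j)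
    obtain ⟨le, hle⟩ := hf W.2 rfl hB (preimage_retract j' hq' _)
    obtain ⟨le', hle'⟩ := hg hB (preimage_retract j' hq' _) W.2 rfl
    refine ⟨le.trans ((f.preimage_mono le').trans (Scheme.Hom.comp_preimage f g _).ge), le_rfl, ?_⟩
    rw [← Scheme.Hom.appLE_comp_appLE f g (W : A.Opens) _ (W : A.Opens) le' le, OmegaSh.id_appLE_eq_id rfl]
    ext x
    obtain ⟨v, hv⟩ := exists_eps_eq j hj W.2 rfl (x - q.appLE _ _ (eq_retract_preimage j hj hq rfl).le (j.appLE (W : A.Opens) _ le_rfl x))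
      (by rw [map_sub, app_retract j hq _ rfl, sub_self])
    have h2 : eps j' hj' hB (preimage_retract j' hq' _) (b.app _ v) = g.appLE (W : A.Opens) _ le' x -
        q'.appLE _ _ (eq_retract_preimage j' hj' hq' (preimage_retract j' hq' _)).le
          (j'.appLE _ _ (preimage_retract j' hq' _).ge (g.appLE (W : A.Opens) _ le' x)) := by
      rw [hle' x v hv, map_add (j'.appLE _ _ _).hom, app_retract j' hq' _ (preimage_retract j' hq' _), app_eps, add_zero]
      abel
    simp only [CommRingCat.comp_apply, CommRingCat.id_apply]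
    rw [hle _ _ h2, hle' x v hv, map_add (j'.appLE _ _ _).hom, app_retract j' hq' _ (preimage_retract j' hq' _),
      app_eps, add_zero, show a.app _ (b.app _ v) = v from congr(Scheme.Modules.Hom.app $hab _ v), hv]
    abel
  refine ⟨⟨f, g, ?_, ?_⟩, hf1, hf2⟩
  · exact main i i' hi hi' hr hr' θ.inv θ.hom θ.hom_inv_id f g hf hg
  · exact main i' i hi' hi hr' hr θ.hom θ.inv θ.inv_hom_id g f hg hf

end Groth.Agent.Rib52
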